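import Cfsg.Agent.Lib.Classical.GUCount.Dual
import Cfsg.Agent.Lib.Classical.BlockDet

/-!
A non-degenerate cyclic subspace of prescribed primary type inside a unitary space.
-/

set_option autoImplicit false

namespace Cfsg.Agent.GUCount

open Polynomial Matrix UnitarySpectra

variable {F : Type*} [Field F] {σ : F ≃+* F} {n : ℕ}

/-- The hermitian form, semilinear in the first argument. -/
def ip (σ : F ≃+* F) (y z : Fin n → F) : F := (fun i => σ (y i)) ⬝ᵥ z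

theorem ip_add_left (y y' z : Fin n → F) : ip σ (y + y') z = ip σ y z + ip σ y' z := by
  simp [ip, dotProduct, add_mul, Finset.sum_add_distrib]

theorem ip_add_right (y z z' : Fin n → F) : ip σ y (z + z') = ip σ y z + ip σ y z' := by
  simp [ip, dotProduct_add]

theorem ip_smul_left (c : F) (y z : Fin n → F) : ip σ (c • y) z = σ c * ip σ y z := by
  simp [ip, dotProduct, Finset.mul_sum, mul_assoc]

theorem ip_smul_right (c : F) (y z : Fin n → F) : ip σ y (c • z) = c * ip σ y z := by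
  simp [ip, dotProduct_smul]

theorem ip_mulVec (M : Matrix (Fin n) (Fin n) F) (y z : Fin n → F) :
    ip σ (M *ᵥ y) z = ip σ y (adj σ M *ᵥ z) := UnitaryClasses.dot_adj σ M y z

theorem ip_swap (hσσ : ∀ x, σ (σ x) = x) (y z : Fin n → F) : σ (ip σ y z) = ip σ z y := by
  simp [ip, dotProduct, map_sum, hσσ, mul_comm]

theorem ip_mulVec_right (hσσ : ∀ x, σ (σ x) = x) (M : Matrix (Fin n) (Fin n) F)
    (y z : Fin n → F) : ip σ y (M *ᵥ z) = ip σ (adj σ M *ᵥ y) z := by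
  rw [ip_mulVec, adj_adj σ hσσ]

/-- Outside the range of the adjoint one sees the kernel. -/
theorem exists_ker_pair (hσσ : ∀ x, σ (σ x) = x) (T : Matrix (Fin n) (Fin n) F) {z : Fin n → F}
    (hz : ∀ u, adj σ T *ᵥ u ≠ z) : ∃ y, T *ᵥ y = 0 ∧ ip σ y z ≠ 0 := by
  obtain ⟨φ, hφz, hφ⟩ := Submodule.exists_dual_map_eq_bot_of_notMem
    (p := LinearMap.range (Matrix.mulVecLin (adj σ T))) (x := z)
    (by rintro ⟨u, hu⟩; exact hz u hu) inferInstance
  let y : Fin n → F := fun i => σ (φ (Pi.single i 1))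
  have hy : ∀ w, ip σ y w = φ w := fun w => by
    conv_rhs => rw [pi_eq_sum_univ' w]
    simp [ip, y, dotProduct, hσσ, map_sum, map_smul, mul_comm]
  refine ⟨y, funext fun i => ?_, by rwa [hy]⟩
  have h1 : ip σ (T *ᵥ y) (Pi.single i 1) = 0 := by
    rw [ip_mulVec, hy]
    have : φ (adj σ T *ᵥ Pi.single i 1) ∈ (LinearMap.range (Matrix.mulVecLin (adj σ T))).map φ :=
      ⟨_, ⟨_, rfl⟩, rfl⟩
    rwa [hφ, Submodule.mem_bot] at this
  simpa [ip, dotProduct_single] using h1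

theorem poly_comm (g : Matrix (Fin n) (Fin n) F) (a b : F[X]) (v : Fin n → F) :
    aeval g a *ᵥ (aeval g b *ᵥ v) = aeval g (a * b) *ᵥ v := by
  rw [map_mul, mulVec_mulVec]

theorem adj_aeval_pow (g : Matrix (Fin n) (Fin n) F) {a b : F[X]}
    (h : adj σ (aeval g a) = aeval g b) : ∀ k : ℕ, adj σ (aeval g (a ^ k)) = aeval g (b ^ k)
  | 0 => by simp [adj_one]
  | k + 1 => by
    rw [pow_succ, map_mul, adj_mul, h, adj_aeval_pow g h k, ← map_mul, ← pow_succ']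

section Primary

variable (hσσ : ∀ x, σ (σ x) = x) {g : Matrix (Fin n) (Fin n) F} (hg : adj σ g * g = 1)
include hσσ hg

variable [Finite F]

/-- A vector paired with the top of a primary vector. -/
theorem exists_partner {p : F[X]} (hp : p.Monic) (h0 : p.coeff 0 ≠ 0) {j : ℕ} {v : Fin n → F}
    (hv : ∀ y, aeval g (p ^ j) *ᵥ y ≠ aeval g (p ^ (j - 1)) *ᵥ v) :
    ∃ w, aeval g (dual σ p ^ j) *ᵥ w = 0 ∧ ip σ w (aeval g (p ^ (j - 1)) *ᵥ v) ≠ 0 := by
  refine exists_ker_pair hσσ _ fun u hu => ?_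
  obtain ⟨a, -, -, ha⟩ := exists_adj_unit hg (dual_coeff_zero_ne (σ := σ) hp h0)
  rw [adj_aeval_pow g ha, dual_dual hσσ hp h0, mul_pow, mul_comm, ← poly_comm] at hu
  exact hv _ hu

/-- The case of a self-dual polynomial. -/
theorem exists_cyclic_self {μ : F} (hμ : σ μ ≠ μ) {p : F[X]} (hp : p.Monic) (h0 : p.coeff 0 ≠ 0)
    (hd : dual σ p = p) {j : ℕ} {v : Fin n → F} (hv0 : aeval g (p ^ j) *ᵥ v = 0)
    (hv : ∀ y, aeval g (p ^ j) *ᵥ y ≠ aeval g (p ^ (j - 1)) *ᵥ v) :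
    ∃ x, aeval g (p ^ j) *ᵥ x = 0 ∧ ip σ x (aeval g (p ^ (j - 1)) *ᵥ x) ≠ 0 := by
  obtain ⟨w, hw0, hw⟩ := exists_partner hσσ hg hp h0 hv
  rw [hd] at hw0
  by_contra hne
  push Not at hne
  have h1 := hne v hv0
  have h2 := hne w hw0
  have h3 := hne (v + w) (by rw [mulVec_add, hv0, hw0, add_zero])
  have h4 := hne (v + μ • w) (by rw [mulVec_add, mulVec_smul, hv0, hw0, smul_zero, add_zero])
  simp only [mulVec_add, mulVec_smul, ip_add_left, ip_add_right, ip_smul_left, ip_smul_right, h1, h2,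
    mul_zero, add_zero, zero_add] at h3 h4
  have h5 : (σ μ - μ) * ip σ w (aeval g (p ^ (j - 1)) *ᵥ v) = 0 := by
    linear_combination h4 - μ * h3
  exact hw ((mul_eq_zero.1 h5).resolve_left (sub_ne_zero.2 hμ))

/-- The top of the first component is seen by the cyclic vector. -/
theorem exists_witness {p p' : F[X]} (h0' : p'.coeff 0 ≠ 0) (hd : dual σ p' = p)
    (hco : IsCoprime p p') {j : ℕ} {v w : Fin n → F} (hv0 : aeval g (p ^ j) *ᵥ v = 0)
    (hw0 : aeval g (p' ^ j) *ᵥ w = 0) {s : F[X]}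
    (hs : ip σ (aeval g s *ᵥ w) (aeval g (p ^ (j - 1)) *ᵥ v) ≠ 0) :
    ∃ c : F[X], ip σ (aeval g c *ᵥ (v + w)) (aeval g (p ^ (j - 1) * p' ^ j) *ᵥ (v + w)) ≠ 0 := by
  obtain ⟨a, b, hba, ha⟩ := exists_adj_unit hg h0'
  rw [hd] at ha
  obtain ⟨A, B, hAB⟩ := (hco.pow (m := j) (n := j))
  refine ⟨s * A * b ^ j, ?_⟩
  have hone : aeval g ((b * a) ^ j) = 1 := by rw [map_pow, hba, one_pow]
  have hright : aeval g (p ^ (j - 1) * p' ^ j) *ᵥ (v + w) =
      aeval g (p' ^ j) *ᵥ (aeval g (p ^ (j - 1)) *ᵥ v) := by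
    rw [mulVec_add, ← poly_comm g _ _ w, hw0, mulVec_zero, add_zero, poly_comm, mul_comm]
  rw [hright, ip_mulVec_right hσσ, adj_aeval_pow g ha, poly_comm]
  have hleft : aeval g ((a * p) ^ j * (s * A * b ^ j)) *ᵥ (v + w) = aeval g s *ᵥ w := by
    rw [mulVec_add, show (a * p) ^ j * (s * A * b ^ j) = (s * A) * (b * a) ^ j * p ^ j by ring,
      ← poly_comm g _ _ v, hv0, mulVec_zero, zero_add,
      show s * A * (b * a) ^ j * p ^ j = (b * a) ^ j * (s - s * B * p' ^ j) by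
        linear_combination ((b * a) ^ j * s) * hAB,
      map_mul, hone, one_mul, map_sub, Matrix.sub_mulVec, ← poly_comm, hw0, mulVec_zero, sub_zero]
  rwa [hleft]

end Primary

/-- A prime power dividing every element of an ideal. -/
theorem pow_dvd_of_crit {f q t : F[X]} {j : ℕ} (hq : Irreducible q) (hf : f = q ^ j * t)
    (S : F[X] → Prop) (hmul : ∀ a b, S a → S (a * b)) (hadd : ∀ a b, S a → S (a + f * b))
    (hcrit : ¬ S (q ^ (j - 1) * t)) {a : F[X]} (ha : S a) : q ^ j ∣ a := by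
  by_contra hna
  classical
  obtain ⟨k, hk⟩ : ∃ k, Nat.find (⟨j, hna⟩ : ∃ k, ¬ q ^ k ∣ a) = k + 1 :=
    Nat.exists_eq_succ_of_ne_zero fun h => by
      have := Nat.find_spec (⟨j, hna⟩ : ∃ k, ¬ q ^ k ∣ a)
      rw [h, pow_zero] at this
      exact this (one_dvd a)
  have hkj : k < j := by
    have := Nat.find_le (h := (⟨j, hna⟩ : ∃ k, ¬ q ^ k ∣ a)) hna
    omega
  obtain ⟨r, hr⟩ : q ^ k ∣ a :=
    not_not.1 (Nat.find_min (⟨j, hna⟩ : ∃ k, ¬ q ^ k ∣ a) (by omega : k < _))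
  have hqr : ¬ q ∣ r := by
    intro h
    have := Nat.find_spec (⟨j, hna⟩ : ∃ k, ¬ q ^ k ∣ a)
    rw [hk, pow_succ, hr] at this
    exact this (mul_dvd_mul_left _ h)
  obtain ⟨e, l, hel⟩ := ((hq.coprime_iff_not_dvd.2 hqr).symm.pow_right (n := j))
  refine hcrit ?_
  have h1 := hadd _ (l * q ^ (j - 1)) (hmul a (q ^ (j - 1 - k) * t * e) ha)
  refine (congrArg S ?_).mp h1
  have h2 : q ^ k * q ^ (j - 1 - k) = q ^ (j - 1) := by rw [← pow_add]; congr 1; omega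
  rw [hr, hf]
  linear_combination (q ^ (j - 1) * t) * hel + (r * t * e) * h2

/-- A cyclic vector of prescribed type spanning a non-degenerate subspace. -/
theorem exists_nondeg [Finite F] (hσσ : ∀ x, σ (σ x) = x) {μ : F} (hμ : σ μ ≠ μ)
    {g : Matrix (Fin n) (Fin n) F} (hg : adj σ g * g = 1) {p : F[X]} (hp : p.Monic)
    (hirr : Irreducible p) (h0 : p.coeff 0 ≠ 0) {j : ℕ} {v : Fin n → F}
    (hv0 : aeval g (p ^ j) *ᵥ v = 0)
    (hv : ∀ y, aeval g (p ^ j) *ᵥ y ≠ aeval g (p ^ (j - 1)) *ᵥ v) :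
    ∃ t : F[X], t.Monic ∧ IsCoprime (p ^ j) t ∧ ∃ x, aeval g (p ^ j * t) *ᵥ x = 0 ∧
      ∀ a : F[X], (∀ c : F[X], ip σ (aeval g c *ᵥ x) (aeval g a *ᵥ x) = 0) → p ^ j * t ∣ a := by
  have hSmul : ∀ (x : Fin n → F) (a b : F[X]),
      (∀ c : F[X], ip σ (aeval g c *ᵥ x) (aeval g a *ᵥ x) = 0) →
      ∀ c : F[X], ip σ (aeval g c *ᵥ x) (aeval g (a * b) *ᵥ x) = 0 := by
    intro x a b ha c
    obtain ⟨b', hb'⟩ := adj_poly_mem hg b
    rw [mul_comm a b, ← poly_comm, ip_mulVec_right hσσ, ← hb', poly_comm]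
    exact ha _
  have hSadd : ∀ (x : Fin n → F) (f : F[X]), aeval g f *ᵥ x = 0 → ∀ a b : F[X],
      (∀ c : F[X], ip σ (aeval g c *ᵥ x) (aeval g a *ᵥ x) = 0) →
      ∀ c : F[X], ip σ (aeval g c *ᵥ x) (aeval g (a + f * b) *ᵥ x) = 0 := by
    intro x f hf a b ha c
    rw [mul_comm f, map_add, add_mulVec, ← poly_comm, hf, mulVec_zero, add_zero]
    exact ha c
  by_cases hd : dual σ p = p
  · obtain ⟨x, hx0, hx⟩ := exists_cyclic_self hσσ hg hμ hp h0 hd hv0 hv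
    refine ⟨1, monic_one, isCoprime_one_right, x, by rw [mul_one]; exact hx0, fun a ha => ?_⟩
    rw [mul_one]
    refine pow_dvd_of_crit (t := 1) hirr (mul_one _).symm
      (fun a => ∀ c : F[X], ip σ (aeval g c *ᵥ x) (aeval g a *ᵥ x) = 0) (hSmul x)
      (hSadd x _ hx0) (fun h => hx ?_) ha
    have := h 1
    rwa [map_one, one_mulVec, mul_one] at this
  have hirr' := dual_irreducible hσσ hirr hp h0
  have hp' := dual_monic (σ := σ) h0
  have hco : IsCoprime p (dual σ p) := hirr.coprime_iff_not_dvd.2 fun h =>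
    hd (eq_of_monic_of_associated hp hp' (hirr.associated_of_dvd hirr' h)).symm
  obtain ⟨w, hw0, hw⟩ := exists_partner hσσ hg hp h0 hv
  have hx0 : aeval g (p ^ j * dual σ p ^ j) *ᵥ (v + w) = 0 := by
    rw [mulVec_add, ← poly_comm g _ _ w, hw0, mulVec_zero, add_zero, mul_comm, ← poly_comm, hv0,
      mulVec_zero]
  obtain ⟨c₁, hc₁⟩ := exists_witness hσσ hg (dual_coeff_zero_ne (σ := σ) hp h0) (dual_dual hσσ hp h0)
    hco hv0 hw0 (s := 1) (by rwa [map_one, one_mulVec])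
  have hsw : ∃ s : F[X], ip σ (aeval g s *ᵥ v) (aeval g (dual σ p ^ (j - 1)) *ᵥ w) ≠ 0 := by
    obtain ⟨u, -, -, hu⟩ := exists_adj_unit hg h0
    obtain ⟨s, hs⟩ := adj_poly_mem hg (u ^ (j - 1))
    refine ⟨s, ?_⟩
    rw [hs, ← ip_mulVec_right hσσ, poly_comm]
    intro h
    apply hw
    rw [ip_mulVec_right hσσ, adj_aeval_pow g hu, mul_pow, ← ip_swap hσσ, h, map_zero]
  obtain ⟨s, hs⟩ := hsw
  obtain ⟨c₂, hc₂⟩ := exists_witness hσσ hg h0 rfl hco.symm hw0 hv0 hs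
  rw [add_comm w v] at hc₂
  refine ⟨dual σ p ^ j, hp'.pow j, hco.pow, v + w, hx0, fun a ha => ?_⟩
  refine hco.pow.mul_dvd ?_ ?_
  · exact pow_dvd_of_crit (t := dual σ p ^ j) hirr rfl
      (fun a => ∀ c : F[X], ip σ (aeval g c *ᵥ (v + w)) (aeval g a *ᵥ (v + w)) = 0) (hSmul _)
      (hSadd _ _ hx0) (fun h => hc₁ (h c₁)) ha
  · exact pow_dvd_of_crit (t := p ^ j) hirr' (mul_comm _ _)
      (fun a => ∀ c : F[X], ip σ (aeval g c *ᵥ (v + w)) (aeval g a *ᵥ (v + w)) = 0) (hSmul _)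
      (hSadd _ _ hx0) (fun h => hc₂ (h c₂)) ha

end Cfsg.Agent.GUCount
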