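import Cfsg.Agent.Lib.Classical.GUCount.Count
import Cfsg.Agent.Lib.Classical.SLClassArith

/-!
The final inequality.
-/

set_option autoImplicit false

namespace Cfsg.Agent.GUCount

theorem bnd_le {q n : ℕ} (hq : 2 ≤ q) (hn : 2 ≤ n) :
    100 * (cntU q n n + ∑ d ∈ (Nat.gcd n (q + 1)).divisors.erase 1,
      (d * d - 1) * cntU q (n / d) (n / d)) ≤ 826 * q ^ (n - 1) * (q + 1) := by
  obtain ⟨m, rfl⟩ : ∃ m, n = m + 2 := ⟨n - 2, by omega⟩
  simp only [show m + 2 - 1 = m + 1 by omega]
  have hmem : ∀ d ∈ (Nat.gcd (m + 2) (q + 1)).divisors.erase 1,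
      d ∣ m + 2 ∧ d ∣ q + 1 ∧ 2 ≤ d ∧ d ≤ q + 1 := by
    intro d hd
    obtain ⟨h1, h2⟩ := Finset.mem_erase.1 hd
    have h3 := Nat.dvd_of_mem_divisors h2
    have h4 := Nat.pos_of_mem_divisors h2
    exact ⟨h3.trans (Nat.gcd_dvd_left _ _), h3.trans (Nat.gcd_dvd_right _ _), by omega,
      Nat.le_of_dvd (by omega) (h3.trans (Nat.gcd_dvd_right _ _))⟩
  rcases Nat.eq_or_lt_of_le hq with rfl | hq3
  · have hbd : ∑ d ∈ (Nat.gcd (m + 2) (2 + 1)).divisors.erase 1,
        (d * d - 1) * cntU 2 ((m + 2) / d) ((m + 2) / d) ≤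
        if 3 ∣ m + 2 then 8 * cntU 2 ((m + 2) / 3) ((m + 2) / 3) else 0 := by
      split_ifs with h3
      · rw [show (8 : ℕ) * cntU 2 ((m + 2) / 3) ((m + 2) / 3) =
          ∑ d ∈ ({3} : Finset ℕ), (d * d - 1) * cntU 2 ((m + 2) / d) ((m + 2) / d) by simp]
        refine Finset.sum_le_sum_of_subset fun d hd => ?_
        obtain ⟨-, h2, h5, h6⟩ := hmem d hd
        interval_cases d
        · omega
        · simp
      · refine le_of_eq (Finset.sum_eq_zero fun d hd => absurd ?_ h3)
        obtain ⟨h1, h2, h5, h6⟩ := hmem d hd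
        interval_cases d
        · omega
        · exact h1
    have hc := cntU_two (m + 2) (m + 2)
    rw [show (2 : ℕ) ^ (m + 2) = 2 * 2 ^ (m + 1) by ring] at hc
    split_ifs at hbd with h3
    · obtain ⟨e, he⟩ := h3
      rw [he, Nat.mul_div_cancel_left _ (by norm_num)] at hbd
      rw [he] at hc ⊢
      have hc' := cntU_two e e
      rcases Nat.lt_or_ge e 2 with he2 | he2
      · obtain rfl : e = 1 := by omega
        obtain rfl : m = 1 := by omega
        have h31 : cntU 2 1 1 = 3 := by simp [cntU, cU, Finset.sum_range_succ]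
        rw [h31] at hbd
        norm_num at hc hbd ⊢
        omega
      · have h16 : 16 * 2 ^ e ≤ 2 * 2 ^ (m + 1) := by
          rw [show (16 : ℕ) = 2 ^ 4 by norm_num, ← pow_add, ← pow_succ']
          exact Nat.pow_le_pow_right (by norm_num) (by omega)
        omega
    · omega
  have hq' : 3 ≤ q := hq3
  have hc := cntU_three hq' (m + 2) (m + 2)
  rcases Nat.lt_or_ge m 3 with hm | hm
  · have hbd : ∀ (s : Finset ℕ), (∀ d, d ∣ m + 2 → 2 ≤ d → d ∈ s) →
        ∑ d ∈ (Nat.gcd (m + 2) (q + 1)).divisors.erase 1,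
          (d * d - 1) * cntU q ((m + 2) / d) ((m + 2) / d) ≤
        ∑ d ∈ s, (d * d - 1) * cntU q ((m + 2) / d) ((m + 2) / d) := fun s hs =>
      Finset.sum_le_sum_of_subset fun d hd => hs d (hmem d hd).1 (hmem d hd).2.2.1
    have c1 := cntU_three hq' 1 1
    have c2 := cntU_three hq' 2 2
    simp only [pow_one] at c1
    interval_cases m
    · have h := hbd ({2} : Finset ℕ) fun d h1 h2 => by
        have := Nat.le_of_dvd (by omega) h1
        interval_cases d; simp
      simp only [Finset.sum_singleton] at h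
      norm_num at h hc ⊢
      nlinarith
    · have h := hbd ({3} : Finset ℕ) fun d h1 h2 => by
        have := Nat.le_of_dvd (by omega) h1
        interval_cases d <;> simp_all
      simp only [Finset.sum_singleton] at h
      norm_num at h hc ⊢
      nlinarith [Nat.mul_le_mul hq' hq']
    · have h := hbd ({2, 4} : Finset ℕ) fun d h1 h2 => by
        have := Nat.le_of_dvd (by omega) h1
        interval_cases d <;> simp_all
      rw [Finset.sum_pair (by omega)] at h
      norm_num at h hc ⊢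
      nlinarith [Nat.mul_le_mul hq' hq', Nat.mul_le_mul (Nat.mul_le_mul hq' hq') (le_refl (q * q)),
        Nat.mul_le_mul (Nat.mul_le_mul hq' hq') (le_refl q)]
  have hX : ∑ d ∈ (Nat.gcd (m + 2) (q + 1)).divisors.erase 1,
      (d * d - 1) * cntU q ((m + 2) / d) ((m + 2) / d) ≤ 6 * (q + 1) ^ 2 * q ^ (m / 2 + 1) := by
    calc _ ≤ ∑ d ∈ (Nat.gcd (m + 2) (q + 1)).divisors.erase 1,
          3 * (q + 1) ^ 2 * q ^ ((m + 2) / d) := by
          refine Finset.sum_le_sum fun d hd => ?_
          rw [show 3 * (q + 1) ^ 2 * q ^ ((m + 2) / d) = (q + 1) ^ 2 * (3 * q ^ ((m + 2) / d)) by ring]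
          refine Nat.mul_le_mul ?_ (cntU_three hq' _ _)
          rw [pow_two]
          exact (Nat.sub_le _ _).trans (Nat.mul_le_mul (hmem d hd).2.2.2 (hmem d hd).2.2.2)
      _ = 3 * (q + 1) ^ 2 *
          ∑ i ∈ ((Nat.gcd (m + 2) (q + 1)).divisors.erase 1).image ((m + 2) / ·), q ^ i := by
          rw [Finset.mul_sum, Finset.sum_image]
          intro a ha b hb h
          obtain ⟨ha1, -⟩ := hmem a ha
          obtain ⟨hb1, -⟩ := hmem b hb
          rw [← Nat.div_div_self ha1 (by omega), ← Nat.div_div_self hb1 (by omega)]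
          exact congrArg ((m + 2) / ·) h
      _ ≤ 3 * (q + 1) ^ 2 * ∑ i ∈ Finset.range (m / 2 + 1 + 1), q ^ i := by
          refine Nat.mul_le_mul_left _ (Finset.sum_le_sum_of_subset fun i hi => ?_)
          obtain ⟨d, hd, rfl⟩ := Finset.mem_image.1 hi
          obtain ⟨-, -, h, -⟩ := hmem d hd
          rw [Finset.mem_range, Nat.lt_succ_iff]
          refine (Nat.div_le_div_left h (by omega)).trans ?_
          omega
      _ ≤ 3 * (q + 1) ^ 2 * (2 * q ^ (m / 2 + 1)) :=
          Nat.mul_le_mul_left _ (by have := SLArith.geom_le hq (m / 2 + 1); omega)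
      _ = _ := by ring
  have hpow : q ^ (m / 2 + 1) * q ≤ q ^ m := by
    rw [← pow_succ]
    exact Nat.pow_le_pow_right (by omega) (by omega)
  rw [pow_succ q (m + 1), pow_succ q m] at hc
  rw [pow_succ q m]
  have h3 : 6 * (q + 1) ^ 2 * q ^ (m / 2 + 1) * 3 ≤ 11 * (q ^ m * q * q) := by
    have h4 : 3 * (q + 1) ≤ 4 * q := by omega
    have h5 : 9 * (q + 1) ^ 2 ≤ 16 * (q * q) := by
      have := Nat.mul_le_mul h4 h4
      linarith
    have h6 : q ^ (m / 2 + 1) * 3 ≤ q ^ m := (Nat.mul_le_mul_left _ hq').trans hpow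
    have := Nat.mul_le_mul h5 h6
    linarith
  nlinarith [Nat.zero_le (q ^ m * q)]

end Cfsg.Agent.GUCount
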