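import Cfsg.Agent.Lib.Classical.GUCount.Dual
import Cfsg.Agent.Lib.Classical.SLClassTwist

/-!
The elementary divisors of a unitary matrix are closed under taking duals.
-/

set_option autoImplicit false
set_option linter.style.haveILetI false

namespace Cfsg.Agent.GUCount

open Polynomial Matrix UnitarySpectra Cfsg.Agent.GLCount

universe u

variable {F : Type u} [Field F] {σ : F ≃+* F} {n : ℕ}

/-- The adjoint has the same nullity. -/
theorem finrank_ker_adj [Fintype F] (T : Matrix (Fin n) (Fin n) F) :
    Module.finrank F (LinearMap.ker (Matrix.mulVecLin (adj σ T))) =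
      Module.finrank F (LinearMap.ker (Matrix.mulVecLin T)) := by
  have h1 := LinearMap.finrank_range_add_finrank_ker (Matrix.mulVecLin T)
  have h2 := LinearMap.finrank_range_add_finrank_ker (Matrix.mulVecLin (T.map σ))
  have h3 := LinearMap.finrank_range_add_finrank_ker (Matrix.mulVecLin (adj σ T))
  have h4 : Module.finrank F (LinearMap.range (Matrix.mulVecLin (adj σ T))) =
      Module.finrank F (LinearMap.range (Matrix.mulVecLin (T.map σ))) :=
    Matrix.rank_transpose (T.map σ)
  have h5 : Module.finrank F (LinearMap.ker (Matrix.mulVecLin (T.map σ))) =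
      Module.finrank F (LinearMap.ker (Matrix.mulVecLin T)) := by
    have hmv : ∀ v : Fin n → F, (T.map σ) *ᵥ (fun i => σ (v i)) = fun i => σ ((T *ᵥ v) i) :=
      fun v => funext fun i => (RingHom.map_mulVec σ.toRingHom _ _ i).symm
    have hinj : ∀ a b : Fin n → F, (fun i => σ (a i)) = (fun i => σ (b i)) → a = b := fun a b h =>
      funext fun i => σ.injective (congrFun h i)
    have hc : Nat.card (LinearMap.ker (Matrix.mulVecLin T)) =
        Nat.card (LinearMap.ker (Matrix.mulVecLin (T.map σ))) := by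
      refine Nat.card_eq_of_bijective
        (fun v => ⟨fun i => σ (v.1 i), by
          rw [LinearMap.mem_ker, Matrix.mulVecLin_apply, hmv]
          funext i
          rw [show T *ᵥ v.1 = 0 from v.2, Pi.zero_apply, map_zero]⟩)
        ⟨fun a b h => Subtype.ext (hinj _ _ (congrArg Subtype.val h)), fun w => ?_⟩
      obtain ⟨v, hv⟩ : ∃ v : Fin n → F, (fun i => σ (v i)) = w.1 :=
        ⟨fun i => σ.symm (w.1 i), funext fun i => σ.apply_symm_apply _⟩
      refine ⟨⟨v, ?_⟩, Subtype.ext hv⟩
      rw [LinearMap.mem_ker, Matrix.mulVecLin_apply]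
      apply hinj
      rw [← hmv, hv]
      exact w.2.trans (funext fun i => (map_zero σ).symm)
    have e1 := Module.natCard_eq_pow_finrank (K := F) (V := LinearMap.ker (Matrix.mulVecLin T))
    have e2 := Module.natCard_eq_pow_finrank (K := F)
      (V := LinearMap.ker (Matrix.mulVecLin (T.map σ)))
    rw [e1, e2] at hc
    exact (Nat.pow_right_injective (Finite.one_lt_card (α := F)) hc).symm
  omega

variable [Fintype F] [DecidableEq F]

theorem dual_code (hσσ : ∀ x, σ (σ x) = x) (g : Matrix.GeneralLinearGroup (Fin n) F)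
    (hg : adj σ g.1 * g.1 = 1) {ι : Type u} [Fintype ι] {q : ι → F[X]} {e : ι → ℕ}
    (hq : ∀ i, Irreducible (q i) ∧ (q i).Monic) (h0 : ∀ i, e i ≠ 0 → (q i).eval 0 ≠ 0)
    (Φ : Module.AEval' (lin g.1) ≃ₗ[F[X]] ((i : ι) → Blk (q i) (e i))) (j : ℕ) :
    dual σ (code q e j) = code q e j := by
  classical
  have hker : ∀ (a : F[X]), LinearMap.ker (aeval (lin g.1) a) =
      LinearMap.ker (Matrix.mulVecLin (aeval g.1 a)) := fun a => by
    rw [GLCount.lin, aeval_algHom_apply]
    rfl
  have hcount : ∀ p : F[X], Irreducible p ∧ p.Monic → p.coeff 0 ≠ 0 →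
      ((Finset.univ.filter fun i => q i = dual σ p).filter fun i => e i = j + 1).card =
        ((Finset.univ.filter fun i => q i = p).filter fun i => e i = j + 1).card := by
    intro p hp hp0
    refine SLTwist.count_eq_of_sum_min _ _ e (fun k => ?_) j
    have h1 := SLTwist.sum_min g hq Φ
      ⟨dual_irreducible hσσ hp.1 hp.2 hp0, dual_monic (σ := σ) hp0⟩ k
    have h2 := SLTwist.sum_min g hq Φ hp k
    rw [natDegree_dual hp0, hker] at h1
    rw [hker, ← finrank_ker_adj (σ := σ)] at h2
    obtain ⟨u, v, hvu, hu⟩ := exists_adj_unit hg hp0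
    have h3 : LinearMap.ker (Matrix.mulVecLin (adj σ (aeval g.1 (p ^ k)))) =
        LinearMap.ker (Matrix.mulVecLin (aeval g.1 (dual σ p ^ k))) := by
      have hpow : adj σ (aeval g.1 (p ^ k)) = aeval g.1 (u ^ k) * aeval g.1 (dual σ p ^ k) := by
        rw [← map_mul, ← mul_pow]
        clear h1 h2
        induction k with
        | zero => simp [adj_one]
        | succ k ih => rw [pow_succ, map_mul, adj_mul, hu, ih, ← map_mul, ← pow_succ']
      ext w
      rw [LinearMap.mem_ker, LinearMap.mem_ker, Matrix.mulVecLin_apply, Matrix.mulVecLin_apply, hpow,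
        ← mulVec_mulVec]
      refine ⟨fun h => ?_, fun h => by rw [h, mulVec_zero]⟩
      have h4 := congrArg (fun z => aeval g.1 (v ^ k) *ᵥ z) h
      simp only [mulVec_mulVec, mulVec_zero, ← map_mul, ← mul_assoc, ← mul_pow] at h4
      rwa [mul_pow (v * u), map_mul, map_pow (aeval g.1) (v * u) k, hvu, one_pow, one_mul] at h4
    rw [h3, h1] at h2
    exact Nat.eq_of_mul_eq_mul_right hp.1.natDegree_pos h2
  obtain ⟨M, hMdef⟩ : ∃ M, M = ((Finset.univ.filter fun i => e i = j + 1).val).map q := ⟨_, rfl⟩
  have hcnt : ∀ a, M.count a =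
      ((Finset.univ.filter fun i => q i = a).filter fun i => e i = j + 1).card := by
    intro a
    rw [hMdef, Multiset.count_map, ← Finset.filter_val, ← Finset.card_def, Finset.filter_filter,
      Finset.filter_filter]
    exact congrArg Finset.card (Finset.filter_congr fun i _ => ⟨fun h => ⟨h.2.symm, h.1⟩,
      fun h => ⟨h.2, h.1.symm⟩⟩)
  have hmem : ∀ a ∈ M, Irreducible a ∧ a.Monic ∧ a.coeff 0 ≠ 0 := fun a ha => by
    rw [hMdef] at ha
    obtain ⟨i, hi, rfl⟩ := Multiset.mem_map.1 ha
    rw [Finset.mem_val, Finset.mem_filter] at hi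
    exact ⟨(hq i).1, (hq i).2, by rw [coeff_zero_eq_eval_zero]; exact h0 i (by omega)⟩
  have hdual : ∀ a ∈ M, dual σ a ∈ M := fun a ha => by
    obtain ⟨h1, h2, h3⟩ := hmem a ha
    rw [← Multiset.count_pos, hcnt, hcount a ⟨h1, h2⟩ h3, ← hcnt, Multiset.count_pos]
    exact ha
  have hinj : Set.InjOn (dual σ) {x | x ∈ M} := fun a ha b hb h => by
    obtain ⟨-, h2, h3⟩ := hmem a ha
    obtain ⟨-, h2', h3'⟩ := hmem b hb
    rw [← dual_dual hσσ h2 h3, h, dual_dual hσσ h2' h3']
  have hM : M.map (dual σ) = M := by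
    refine Multiset.ext.2 fun a => ?_
    by_cases ha : a ∈ M
    · obtain ⟨h1, h2, h3⟩ := hmem a ha
      obtain ⟨-, h2', h3'⟩ := hmem _ (hdual a ha)
      conv_lhs => rw [← dual_dual hσσ h2 h3]
      rw [Multiset.count_map_eq_count (dual σ) M hinj (dual σ a) (hdual a ha), hcnt, hcnt,
        hcount a ⟨h1, h2⟩ h3]
    · rw [Multiset.count_eq_zero.2 ha, Multiset.count_eq_zero.2]
      intro h
      obtain ⟨b, hb, rfl⟩ := Multiset.mem_map.1 h
      exact ha (hdual b hb)
  have hprod : ∀ s : Multiset F[X], dual σ s.prod = (s.map (dual σ)).prod := by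
    intro s
    induction s using Multiset.induction with
    | empty => simp [dual_one]
    | cons a s ih => rw [Multiset.prod_cons, dual_mul, ih, Multiset.map_cons, Multiset.prod_cons]
  show dual σ (((Finset.univ.filter fun i => e i = j + 1).val).map q).prod =
    (((Finset.univ.filter fun i => e i = j + 1).val).map q).prod
  rw [← hMdef, hprod, hM]

end Cfsg.Agent.GUCount
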