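import Mathlib

/-!
Arithmetic of the class count of unitary groups.
-/

set_option autoImplicit false

namespace Cfsg.Agent.GUCount

/-- The number of self-dual monic polynomials of degree `a` with non-zero constant term. -/
def cU (q a : ℕ) : ℕ := if a = 0 then 1 else (q + 1) * q ^ (a - 1)

/-- The coefficient of `t ^ n` in `∏_{i ≤ m} ∑_a cU a t ^ (i a)`. -/
def cntU (q : ℕ) : ℕ → ℕ → ℕ
  | 0, n => if n = 0 then 1 else 0
  | m + 1, n => ∑ a ∈ Finset.range (n / (m + 1) + 1), cU q a * cntU q m (n - a * (m + 1))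

/-- Weighted number of codes. -/
def WU (q : ℕ) : ℕ → ℕ → (ℕ → ℕ) → ℕ
  | 0, n, f => if n = 0 then f (q + 1) else 0
  | m + 1, n, f => ∑ a ∈ Finset.range (n / (m + 1) + 1),
      cU q a * WU q m (n - a * (m + 1)) (if a = 0 then f else fun w => f (Nat.gcd (m + 1) w))

theorem WU_mono (q : ℕ) : ∀ m n {f g : ℕ → ℕ},
    (∀ w, w ∣ q + 1 → w ∣ n → f w ≤ g w) → WU q m n f ≤ WU q m n g
  | 0, n, f, g, h => by
    by_cases hn : n = 0
    · simp [WU, hn, h (q + 1) dvd_rfl (hn ▸ dvd_zero _)]
    · simp [WU, hn]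
  | m + 1, n, f, g, h => by
    rw [WU, WU]
    refine Finset.sum_le_sum fun a ha => Nat.mul_le_mul_left _ (WU_mono q m _ fun w h1 h2 => ?_)
    rw [Finset.mem_range, Nat.lt_succ_iff, Nat.le_div_iff_mul_le (by omega)] at ha
    by_cases ha0 : a = 0
    · simp only [ha0, if_true, zero_mul, Nat.sub_zero] at h2 ⊢
      exact h w h1 h2
    · simp only [ha0, if_false]
      refine h _ ((Nat.gcd_dvd_right _ w).trans h1) ?_
      have h3 : Nat.gcd (m + 1) w ∣ n - a * (m + 1) := (Nat.gcd_dvd_right _ w).trans h2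
      have h4 : Nat.gcd (m + 1) w ∣ a * (m + 1) := Dvd.dvd.mul_left (Nat.gcd_dvd_left _ w) a
      have := Nat.dvd_add h3 h4
      rwa [Nat.sub_add_cancel ha] at this

theorem WU_add (q : ℕ) : ∀ m n (f g : ℕ → ℕ),
    WU q m n (fun w => f w + g w) = WU q m n f + WU q m n g
  | 0, n, f, g => by by_cases hn : n = 0 <;> simp [WU, hn]
  | m + 1, n, f, g => by
    rw [WU, WU, WU, ← Finset.sum_add_distrib]
    refine Finset.sum_congr rfl fun a _ => ?_
    rw [← mul_add, ← WU_add q m]
    congr 2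
    split_ifs <;> rfl

theorem WU_smul (q k : ℕ) : ∀ m n (f : ℕ → ℕ), WU q m n (fun w => k * f w) = k * WU q m n f
  | 0, n, f => by by_cases hn : n = 0 <;> simp [WU, hn]
  | m + 1, n, f => by
    rw [WU, WU, Finset.mul_sum]
    refine Finset.sum_congr rfl fun a _ => ?_
    rw [mul_left_comm, ← WU_smul q k m]
    congr 2
    split_ifs <;> rfl

theorem WU_zero (q m n : ℕ) : WU q m n (fun _ => 0) = 0 := by
  have := WU_smul q 0 m n (fun _ => 0)
  simpa using this

theorem WU_sum {α : Type*} (q m n : ℕ) (s : Finset α) (f : α → ℕ → ℕ) :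
    WU q m n (fun w => ∑ x ∈ s, f x w) = ∑ x ∈ s, WU q m n (f x) := by
  classical
  induction s using Finset.induction with
  | empty => simpa using WU_zero q m n
  | insert a s ha ih => simp only [Finset.sum_insert ha, WU_add, ih]

/-- Codes all of whose block sizes are multiples of `d`. -/
theorem WU_dvd (q : ℕ) {d : ℕ} (hd : 0 < d) : ∀ m n,
    WU q m n (fun w => if d ∣ w then 1 else 0) ≤ if d ∣ n then cntU q (m / d) (n / d) else 0
  | 0, n => by
    by_cases hn : n = 0
    · subst hn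
      simp only [WU, if_true, Nat.zero_div, dvd_zero, cntU]
      split_ifs <;> omega
    · simp [WU, hn]
  | m + 1, n => by
    rw [WU]
    by_cases hdm : d ∣ m + 1
    · obtain ⟨B, hB⟩ := hdm
      obtain ⟨M, rfl⟩ : ∃ M, B = M + 1 :=
        ⟨B - 1, by rcases Nat.eq_zero_or_pos B with h | h <;> [simp [h] at hB; omega]⟩
      have hdiv : m / d = M := by
        have h1 : m = d * M + (d - 1) := by
          rw [mul_add, mul_one] at hB
          omega
        rw [h1, Nat.mul_add_div hd, Nat.div_eq_of_lt (by omega : d - 1 < d), add_zero]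
      have hdiv' : (m + 1) / d = M + 1 := by rw [hB, Nat.mul_div_cancel_left _ hd]
      have hf : ∀ a : ℕ, (if a = 0 then (fun w => if d ∣ w then 1 else 0)
          else fun w => if d ∣ Nat.gcd (m + 1) w then 1 else 0) =
            fun w => if d ∣ w then 1 else 0 := by
        intro a
        split_ifs with h
        · rfl
        · funext w
          simp only [Nat.dvd_gcd_iff, hB, dvd_mul_right, true_and]
      simp only [hf]
      have hrange : n / (m + 1) = n / d / (M + 1) := by rw [hB, Nat.div_div_eq_div_mul]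
      by_cases hden : d ∣ n
      · rw [if_pos hden, hdiv', cntU, hrange]
        refine Finset.sum_le_sum fun a ha => Nat.mul_le_mul_left _ ?_
        refine (WU_dvd q hd m _).trans ?_
        rw [hdiv, if_pos (Nat.dvd_sub hden (Dvd.dvd.mul_left ⟨M + 1, hB⟩ a))]
        refine le_of_eq ?_
        rw [hB, show a * (d * (M + 1)) = d * (a * (M + 1)) by ring, Nat.sub_mul_div]
      · rw [if_neg hden]
        refine le_of_eq (Finset.sum_eq_zero fun a ha => ?_)
        rw [Finset.mem_range, Nat.lt_succ_iff, Nat.le_div_iff_mul_le (by omega)] at ha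
        have h1 := WU_dvd q hd m (n - a * (m + 1))
        rw [if_neg (fun h => hden (by
          have := Nat.dvd_add h (Dvd.dvd.mul_left ⟨M + 1, hB⟩ a : d ∣ a * (m + 1))
          rwa [Nat.sub_add_cancel ha] at this))] at h1
        rw [Nat.le_zero.1 h1, mul_zero]
    · have hdiv : (m + 1) / d = m / d := by
        rw [Nat.succ_div]
        simp [hdm]
      rw [hdiv]
      refine le_trans (le_of_eq ?_) (WU_dvd q hd m n)
      rw [Finset.sum_eq_single 0]
      · simp [cU]
      · intro a _ ha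
        have : (fun w => if d ∣ Nat.gcd (m + 1) w then (1 : ℕ) else 0) = fun _ => 0 := by
          funext w
          rw [if_neg (fun h => hdm (h.trans (Nat.gcd_dvd_left _ _)))]
        simp [if_neg ha, this, WU_zero]
      · simp

/-- The partial products bounding `cntU`, in the variable `x = 1 / q`. -/
def Kb (x : ℚ) : ℕ → ℚ
  | 0 => 1
  | 1 => 1 + x
  | m + 2 => Kb x (m + 1) * ((1 + x ^ (m + 2)) / (1 - x ^ (m + 1)))

theorem pow_lt_one' {x : ℚ} (h0 : 0 ≤ x) (h1 : x < 1) (m : ℕ) : x ^ (m + 1) < 1 :=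
  pow_lt_one₀ h0 h1 (Nat.succ_ne_zero m)

theorem Kb_nonneg {x : ℚ} (h0 : 0 ≤ x) (h1 : x < 1) : ∀ m, 0 ≤ Kb x m
  | 0 => by simp [Kb]
  | 1 => by simp only [Kb]; linarith
  | m + 2 => by
    rw [Kb]
    have := pow_lt_one' h0 h1 m
    exact mul_nonneg (Kb_nonneg h0 h1 (m + 1)) (div_nonneg (by positivity) (by linarith))

theorem Kb_mono {x y : ℚ} (h0 : 0 ≤ x) (hxy : x ≤ y) (h1 : y < 1) : ∀ m, Kb x m ≤ Kb y m
  | 0 => le_rfl
  | 1 => by simp only [Kb]; linarith
  | m + 2 => by
    rw [Kb, Kb]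
    have hp := pow_lt_one' (h0.trans hxy) h1 m
    have hle := pow_le_pow_left₀ h0 hxy (m + 1)
    refine mul_le_mul (Kb_mono h0 hxy h1 (m + 1)) ?_ (div_nonneg (by positivity) (by linarith))
      (Kb_nonneg (h0.trans hxy) h1 _)
    exact div_le_div₀ (by have := h0.trans hxy; positivity)
      (by have := pow_le_pow_left₀ h0 hxy (m + 2); linarith) (by linarith) (by linarith)

theorem Kb_succ_ge {x : ℚ} (h0 : 0 ≤ x) (h1 : x < 1) (m : ℕ) : Kb x m ≤ Kb x (m + 1) := by
  cases m with
  | zero => simp only [Kb]; linarith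
  | succ m =>
    rw [show Kb x (m + 1 + 1) = Kb x (m + 1) * ((1 + x ^ (m + 2)) / (1 - x ^ (m + 1))) from rfl]
    have := pow_lt_one' h0 h1 m
    refine le_mul_of_one_le_right (Kb_nonneg h0 h1 _) ?_
    rw [one_le_div (by linarith)]
    have : 0 ≤ x ^ (m + 1) := by positivity
    have : 0 ≤ x ^ (m + 2) := by positivity
    linarith

theorem Kb_le_of_tail {x C : ℚ} (h0 : 0 ≤ x) (h1 : x < 1) (hC : 0 ≤ C) {M : ℕ}
    (hM : C * x ^ (M + 1) * (1 + x * x) ≤ C * (1 - x) - 1 - x) :
    ∀ m, Kb x m ≤ Kb x (M + 1) * (1 + C * x ^ (M + 1)) := by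
  have hmono : ∀ a b, a ≤ b → Kb x a ≤ Kb x b := fun a b hab =>
    monotone_nat_of_le_succ (Kb_succ_ge h0 h1) hab
  have key : ∀ i, Kb x (M + 1 + i) * (1 + C * x ^ (M + 1 + i)) ≤
      Kb x (M + 1) * (1 + C * x ^ (M + 1)) := by
    intro i
    induction i with
    | zero => rfl
    | succ i ih =>
      refine le_trans ?_ ih
      obtain ⟨z, hz⟩ : ∃ z, x ^ (M + 1 + i) = z := ⟨_, rfl⟩
      have hz0 : 0 ≤ z := hz ▸ pow_nonneg h0 _
      have hzM : z ≤ x ^ (M + 1) := hz ▸ pow_le_pow_of_le_one h0 h1.le (by omega)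
      have hz1 : z < 1 := hzM.trans_lt (pow_lt_one' h0 h1 M)
      rw [show M + 1 + (i + 1) = M + i + 2 by omega, Kb,
        show M + i + 1 = M + 1 + i by omega, mul_assoc]
      refine mul_le_mul_of_nonneg_left ?_ (Kb_nonneg h0 h1 _)
      rw [show M + i + 2 = (M + 1 + i) + 1 by omega, pow_succ, hz, div_mul_eq_mul_div,
        div_le_iff₀ (by linarith)]
      have h2 : C * z * (1 + x * x) ≤ C * (1 - x) - 1 - x := by
        refine le_trans ?_ hM
        have : 0 ≤ 1 + x * x := by nlinarith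
        exact mul_le_mul_of_nonneg_right (mul_le_mul_of_nonneg_left hzM hC) this
      nlinarith [mul_le_mul_of_nonneg_left h2 hz0]
  intro m
  rcases Nat.le_total m (M + 1) with hm | hm
  · refine (hmono m (M + 1) hm).trans (le_mul_of_one_le_right (Kb_nonneg h0 h1 _) ?_)
    have : 0 ≤ C * x ^ (M + 1) := by positivity
    linarith
  · obtain ⟨i, rfl⟩ := Nat.exists_eq_add_of_le hm
    refine le_trans (le_mul_of_one_le_right (Kb_nonneg h0 h1 _) ?_) (key i)
    have : 0 ≤ C * x ^ (M + 1 + i) := by positivity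
    linarith

theorem Kb_two (m : ℕ) : Kb (1 / 2) m ≤ 826 / 100 := by
  refine (Kb_le_of_tail (C := 31 / 10) (M := 11) (by norm_num) (by norm_num) (by norm_num)
    (by norm_num) m).trans ?_
  norm_num [Kb]

theorem Kb_three {x : ℚ} (h0 : 0 ≤ x) (h1 : x ≤ 1 / 3) (m : ℕ) : Kb x m ≤ 3 := by
  refine (Kb_mono h0 h1 (by norm_num) m).trans ((Kb_le_of_tail (C := 11 / 5) (M := 4) (by norm_num)
    (by norm_num) (by norm_num) (by norm_num) m).trans ?_)
  norm_num [Kb]

theorem geom_aux {z : ℚ} (h0 : 0 ≤ z) (h1 : z < 1) {c : ℚ} (hc : 0 ≤ c) (A : ℕ) :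
    1 + c * ∑ a ∈ Finset.range A, z ^ (a + 1) ≤ (1 + (c - 1) * z) / (1 - z) := by
  have h2 : (∑ a ∈ Finset.range A, z ^ (a + 1)) * (1 - z) = z - z ^ (A + 1) := by
    induction A with
    | zero => simp
    | succ A ih => rw [Finset.sum_range_succ, add_mul, ih]; ring
  rw [le_div_iff₀ (by linarith)]
  nlinarith [mul_nonneg hc (pow_nonneg h0 (A + 1))]

theorem cntU_le {q : ℕ} (hq : 2 ≤ q) : ∀ m n,
    (cntU q m n : ℚ) ≤ Kb (1 / q) m * (q : ℚ) ^ n
  | 0, n => by
    by_cases hn : n = 0
    · simp [cntU, Kb, hn]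
    · simp only [cntU, hn, if_false, Kb, one_mul]
      push_cast
      positivity
  | 1, n => by
    have hrec : cntU q 1 n = ∑ a ∈ Finset.range (n + 1), cU q a * cntU q 0 (n - a) := by
      simp [cntU]
    rw [hrec, Finset.sum_eq_single n]
    · rw [Nat.sub_self, show cntU q 0 0 = 1 from rfl, mul_one]
      simp only [Kb, cU]
      rcases Nat.eq_zero_or_pos n with rfl | hn
      · simp
      · obtain ⟨a, rfl⟩ : ∃ a, n = a + 1 := ⟨n - 1, by omega⟩
        have hq0 : (q : ℚ) ≠ 0 := by positivity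
        rw [if_neg (by omega), Nat.add_sub_cancel]
        push_cast
        refine le_of_eq ?_
        field_simp
        ring
    · intro a ha hne
      have : n - a ≠ 0 := by rw [Finset.mem_range] at ha; omega
      simp [cntU, this]
    · simp
  | m + 2, n => by
    obtain ⟨A, hA⟩ : ∃ A, n / (m + 2) = A := ⟨_, rfl⟩
    have hq0 : (q : ℚ) ≠ 0 := by positivity
    have hq1 : (0 : ℚ) < q := by positivity
    obtain ⟨x, hx⟩ : ∃ x : ℚ, 1 / (q : ℚ) = x := ⟨_, rfl⟩
    have hx0 : 0 ≤ x := hx ▸ by positivity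
    have hx1 : x < 1 := by
      rw [← hx, div_lt_one hq1]
      exact_mod_cast hq
    have hqx : (q : ℚ) * x = 1 := by rw [← hx]; field_simp
    rw [cntU, hA, hx]
    push_cast
    calc ∑ a ∈ Finset.range (A + 1), (cU q a : ℚ) * cntU q (m + 1) (n - a * (m + 2))
        ≤ ∑ a ∈ Finset.range (A + 1), (cU q a : ℚ) *
            (Kb x (m + 1) * ((q : ℚ) ^ n * x ^ (a * (m + 2)))) := by
          refine Finset.sum_le_sum fun a ha => mul_le_mul_of_nonneg_left ?_ (by positivity)
          refine (cntU_le hq (m + 1) _).trans (le_of_eq ?_)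
          rw [hx]
          congr 1
          rw [Finset.mem_range, Nat.lt_succ_iff, ← hA, Nat.le_div_iff_mul_le (by omega)] at ha
          obtain ⟨r, hr⟩ := Nat.exists_eq_add_of_le ha
          rw [hr, Nat.add_sub_cancel_left, pow_add, mul_right_comm, ← mul_pow, hqx, one_pow, one_mul]
      _ = Kb x (m + 1) * (q : ℚ) ^ n *
            (1 + (1 + x) * ∑ a ∈ Finset.range A, (x ^ (m + 1)) ^ (a + 1)) := by
          rw [Finset.sum_range_succ']
          rw [Finset.mul_sum (s := Finset.range A), mul_add (Kb x (m + 1) * (q : ℚ) ^ n), Finset.mul_sum (a := Kb x (m + 1) * (q : ℚ) ^ n), add_comm]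
          congr 1
          · simp [cU]
          · refine Finset.sum_congr rfl fun a _ => ?_
            rw [cU, if_neg (Nat.succ_ne_zero a), Nat.add_sub_cancel, ← pow_mul,
              show (a + 1) * (m + 2) = (m + 1) * (a + 1) + (a + 1) by ring, pow_add]
            push_cast
            calc _ = Kb x (m + 1) * (q : ℚ) ^ n * ((q * x + x) *
                  x ^ ((m + 1) * (a + 1)) * ((q : ℚ) * x) ^ a) := by ring
              _ = _ := by rw [hqx, one_pow, mul_one]
      _ ≤ Kb x (m + 1) * (q : ℚ) ^ n * ((1 + x * x ^ (m + 1)) / (1 - x ^ (m + 1))) := by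
          refine mul_le_mul_of_nonneg_left ?_ (mul_nonneg (Kb_nonneg hx0 hx1 _) (by positivity))
          have := geom_aux (pow_nonneg hx0 (m + 1)) (pow_lt_one' hx0 hx1 m) (c := 1 + x)
            (by linarith) A
          rwa [add_sub_cancel_left] at this
      _ = _ := by rw [show Kb x (m + 2) = Kb x (m + 1) * ((1 + x ^ (m + 2)) / (1 - x ^ (m + 1))) from rfl,
            show x ^ (m + 2) = x * x ^ (m + 1) by ring]; ring

theorem cntU_two (m n : ℕ) : 100 * cntU 2 m n ≤ 826 * 2 ^ n := by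
  have h := (cntU_le (q := 2) le_rfl m n).trans
    (mul_le_mul_of_nonneg_right (by simpa using Kb_two m) (by positivity))
  have h2 : ((100 * cntU 2 m n : ℕ) : ℚ) ≤ ((826 * 2 ^ n : ℕ) : ℚ) := by
    push_cast at h ⊢
    linarith
  exact_mod_cast h2

theorem cntU_three {q : ℕ} (hq : 3 ≤ q) (m n : ℕ) : cntU q m n ≤ 3 * q ^ n := by
  have h3 : (3 : ℚ) ≤ q := by exact_mod_cast hq
  have h := (cntU_le (q := q) (by omega) m n).trans
    (mul_le_mul_of_nonneg_right (Kb_three (by positivity)
      (one_div_le_one_div_of_le (by norm_num) h3) m) (by positivity))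
  exact_mod_cast h

end Cfsg.Agent.GUCount
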