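import Cfsg.Agent.Lib.Classical.UnitaryClasses

/-!
The twisted reciprocal of a polynomial and its meaning for unitary matrices.
-/

set_option autoImplicit false

namespace Cfsg.Agent.GUCount

open Polynomial UnitarySpectra

variable {F : Type*} [Field F] (σ : F ≃+* F)

/-- The monic polynomial whose roots are the `σ (r)⁻¹`, for `r` a root of `p`. -/
noncomputable def dual (p : F[X]) : F[X] := C (σ (p.coeff 0))⁻¹ * (p.map σ.toRingHom).reverse

theorem natDegree_map_sigma (p : F[X]) : (p.map σ.toRingHom).natDegree = p.natDegree :=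
  natDegree_map_eq_of_injective σ.injective p

theorem dual_coeff (p : F[X]) {i : ℕ} (hi : i ≤ p.natDegree) :
    (dual σ p).coeff i = (σ (p.coeff 0))⁻¹ * σ (p.coeff (p.natDegree - i)) := by
  rw [dual, coeff_C_mul, coeff_reverse, natDegree_map_sigma, revAt_le hi, coeff_map]
  rfl

theorem dual_mul (p r : F[X]) : dual σ (p * r) = dual σ p * dual σ r := by
  rw [dual, dual, dual, Polynomial.map_mul, reverse_mul_of_domain, mul_coeff_zero, map_mul, mul_inv,
    map_mul]
  ring

theorem dual_one : dual σ (1 : F[X]) = 1 := by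
  rw [dual, Polynomial.map_one, ← C_1, reverse_C]
  simp

variable {σ}

theorem natDegree_dual {p : F[X]} (h0 : p.coeff 0 ≠ 0) : (dual σ p).natDegree = p.natDegree := by
  refine le_antisymm ?_ (le_natDegree_of_ne_zero ?_)
  · refine (natDegree_C_mul_le _ _).trans ((reverse_natDegree_le _).trans ?_)
    rw [natDegree_map_sigma]
  · rw [dual_coeff σ p le_rfl, Nat.sub_self]
    exact mul_ne_zero (inv_ne_zero ((map_ne_zero σ).2 h0)) ((map_ne_zero σ).2 h0)

theorem dual_monic {p : F[X]} (h0 : p.coeff 0 ≠ 0) : (dual σ p).Monic := by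
  rw [Monic, leadingCoeff, natDegree_dual h0, dual_coeff σ p le_rfl, Nat.sub_self,
    inv_mul_cancel₀ ((map_ne_zero σ).2 h0)]

theorem dual_coeff_zero_ne {p : F[X]} (hp : p.Monic) (h0 : p.coeff 0 ≠ 0) :
    (dual σ p).coeff 0 ≠ 0 := by
  rw [dual_coeff σ p (Nat.zero_le _), Nat.sub_zero, hp.coeff_natDegree, map_one, mul_one]
  exact inv_ne_zero ((map_ne_zero σ).2 h0)

theorem dual_dual (hσσ : ∀ x, σ (σ x) = x) {p : F[X]} (hp : p.Monic) (h0 : p.coeff 0 ≠ 0) :
    dual σ (dual σ p) = p := by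
  ext i
  rcases Nat.lt_or_ge p.natDegree i with hi | hi
  · rw [coeff_eq_zero_of_natDegree_lt hi, coeff_eq_zero_of_natDegree_lt]
    rwa [natDegree_dual (dual_coeff_zero_ne hp h0), natDegree_dual h0]
  rw [dual_coeff σ _ (by rwa [natDegree_dual h0]), natDegree_dual h0, dual_coeff σ p (Nat.zero_le _),
    dual_coeff σ p (Nat.sub_le _ _), Nat.sub_zero, Nat.sub_sub_self hi, hp.coeff_natDegree, map_one,
    mul_one, map_inv₀, hσσ, inv_inv, map_mul, map_inv₀, hσσ, hσσ, ← mul_assoc, mul_inv_cancel₀ h0,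
    one_mul]

theorem dual_irreducible (hσσ : ∀ x, σ (σ x) = x) {p : F[X]} (hp : Irreducible p) (hm : p.Monic)
    (h0 : p.coeff 0 ≠ 0) : Irreducible (dual σ p) := by
  refine ⟨fun h => hp.natDegree_pos.ne' ?_, fun a b hab => ?_⟩
  · rw [← natDegree_dual (σ := σ) h0]
    exact natDegree_eq_zero_of_isUnit h
  have hne := dual_coeff_zero_ne (σ := σ) hm h0
  rw [hab, mul_coeff_zero] at hne
  obtain ⟨ha0, hb0⟩ := mul_ne_zero_iff.1 hne
  have ha : a ≠ 0 := fun h => ha0 (by rw [h, coeff_zero])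
  have hb : b ≠ 0 := fun h => hb0 (by rw [h, coeff_zero])
  have h1 := dual_dual hσσ hm h0
  rw [hab, dual_mul] at h1
  rcases hp.isUnit_or_isUnit h1.symm with h | h
  · left
    have h2 := natDegree_eq_zero_of_isUnit h
    rw [natDegree_dual ha0] at h2
    rw [isUnit_iff_degree_eq_zero, degree_eq_natDegree ha, h2]
    rfl
  · right
    have h2 := natDegree_eq_zero_of_isUnit h
    rw [natDegree_dual hb0] at h2
    rw [isUnit_iff_degree_eq_zero, degree_eq_natDegree hb, h2]
    rfl

/-- Self-dual polynomials. -/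
def SD (σ : F ≃+* F) (p : F[X]) : Prop :=
  ∀ i ≤ p.natDegree, p.coeff (p.natDegree - i) = p.coeff 0 * σ (p.coeff i)

theorem SD_of_dual {p : F[X]} (hp : p.Monic) (h : dual σ p = p) : SD σ p := by
  have key : ∀ i ≤ p.natDegree, p.coeff i = (σ (p.coeff 0))⁻¹ * σ (p.coeff (p.natDegree - i)) :=
    fun i hi => (congrArg (fun r : F[X] => r.coeff i) h).symm.trans (dual_coeff σ p hi)
  intro i hi
  have h0 := key 0 (Nat.zero_le _)
  rw [Nat.sub_zero, hp.coeff_natDegree, map_one, mul_one] at h0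
  rw [key _ (Nat.sub_le _ _), Nat.sub_sub_self hi, ← h0]

section Matrices

variable {n : ℕ}

theorem adj_aeval (g : Matrix (Fin n) (Fin n) F) (a : F[X]) :
    adj σ (aeval g a) = aeval (adj σ g) (a.map σ.toRingHom) := by
  induction a using Polynomial.induction_on' with
  | add a b ha hb => rw [map_add, adj_add, ha, hb, Polynomial.map_add, map_add]
  | monomial i c =>
    rw [Polynomial.map_monomial, aeval_monomial, aeval_monomial, ← Algebra.smul_def,
      ← Algebra.smul_def, adj_smul]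
    congr 1
    induction i with
    | zero => rw [pow_zero, pow_zero, adj_one]
    | succ i ih => rw [pow_succ, pow_succ', adj_mul, ih]

theorem aeval_reflect {g h : Matrix (Fin n) (Fin n) F} (hgh : g * h = 1) (P : F[X]) {N : ℕ}
    (hN : P.natDegree ≤ N) : aeval g (P.reflect N) = g ^ N * aeval h P := by
  refine induction_with_natDegree_le (fun P => aeval g (P.reflect N) = g ^ N * aeval h P) N
    (by simp) (fun i c _ hi => ?_) (fun a b _ _ ha hb => ?_) P hN
  · have hhg : h * g = 1 := mul_eq_one_comm.1 hgh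
    rw [reflect_C_mul_X_pow, revAt_le hi, map_mul, map_mul, map_pow, map_pow, aeval_X, aeval_X,
      aeval_C, aeval_C]
    nth_rewrite 2 [← Nat.sub_add_cancel hi]
    rw [pow_add, ← mul_assoc, ← Algebra.commutes, mul_assoc, mul_assoc (g ^ (N - i)),
      ← (show Commute g h from hgh.trans hhg.symm).mul_pow, hgh, one_pow, mul_one]
  · simp only [reflect_add, map_add, ha, hb, mul_add]

/-- The adjoint of a polynomial in a unitary matrix. -/
theorem adj_aeval_dual {g : Matrix (Fin n) (Fin n) F} (hg : adj σ g * g = 1) {p : F[X]}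
    (h0 : p.coeff 0 ≠ 0) :
    adj σ (aeval g p) = σ (p.coeff 0) • (adj σ g ^ p.natDegree * aeval g (dual σ p)) := by
  have hgh : g * adj σ g = 1 := mul_eq_one_comm.1 hg
  rw [dual, reverse, map_mul, aeval_C, natDegree_map_sigma, aeval_reflect hgh _
    (natDegree_map_sigma σ p).le, ← Algebra.smul_def, ← adj_aeval, mul_smul_comm, smul_smul,
    mul_inv_cancel₀ ((map_ne_zero σ).2 h0), one_smul, ← mul_assoc,
    ← (show Commute (adj σ g) g from hg.trans hgh.symm).mul_pow, hg, one_pow, one_mul]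

/-- The inverse of a unitary matrix is a polynomial in it. -/
theorem exists_adj_poly [Finite F] {g : Matrix (Fin n) (Fin n) F} (hg : adj σ g * g = 1) :
    ∃ h : F[X], aeval g h = adj σ g := by
  let u : (Matrix (Fin n) (Fin n) F)ˣ := ⟨g, adj σ g, mul_eq_one_comm.1 hg, hg⟩
  have hN : g ^ orderOf u = 1 := congrArg Units.val (pow_orderOf_eq_one u)
  refine ⟨X ^ (orderOf u - 1), ?_⟩
  rw [map_pow, aeval_X, ← one_mul (g ^ _), ← hg, mul_assoc, ← pow_succ',
    Nat.sub_add_cancel (orderOf_pos u), hN, mul_one]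

theorem adj_poly_mem [Finite F] {g : Matrix (Fin n) (Fin n) F} (hg : adj σ g * g = 1) (a : F[X]) :
    ∃ b : F[X], aeval g b = adj σ (aeval g a) := by
  obtain ⟨h, hh⟩ := exists_adj_poly hg
  exact ⟨(a.map σ.toRingHom).comp h, by rw [aeval_comp, hh, adj_aeval]⟩

/-- Associates: the adjoint of `p (g)` is a unit multiple of `dual p (g)`. -/
theorem exists_adj_unit [Finite F] {g : Matrix (Fin n) (Fin n) F} (hg : adj σ g * g = 1) {p : F[X]}
    (h0 : p.coeff 0 ≠ 0) :
    ∃ u v : F[X], aeval g (v * u) = 1 ∧ adj σ (aeval g p) = aeval g (u * dual σ p) := by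
  obtain ⟨h, hh⟩ := exists_adj_poly hg
  refine ⟨C (σ (p.coeff 0)) * h ^ p.natDegree, C (σ (p.coeff 0))⁻¹ * X ^ p.natDegree, ?_, ?_⟩
  · rw [mul_mul_mul_comm, ← C_mul, inv_mul_cancel₀ ((map_ne_zero σ).2 h0), C_1, one_mul, ← mul_pow,
      map_pow, map_mul, aeval_X, hh, mul_eq_one_comm.1 hg, one_pow]
  · rw [adj_aeval_dual hg h0, map_mul, map_mul, aeval_C, map_pow, hh, Algebra.smul_def, mul_assoc]

end Matrices

end Cfsg.Agent.GUCount
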