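import Cfsg.Agent.Lib.Classical.GUCount.Count
import Cfsg.Agent.Lib.Classical.GUCount.Dual
import Cfsg.Agent.Lib.Classical.SelfRecip
import Cfsg.Agent.Lib.Classical.SLClassBound

/-!
Weighted counting of self-dual codes with prescribed determinant.
-/

set_option autoImplicit false
set_option linter.style.haveILetI false

namespace Cfsg.Agent.GUCount

open Polynomial Cfsg.Agent.GLCount Cfsg.Agent.BlockDet Cfsg.Agent.SLWeight

variable {F : Type*} [Field F] [Fintype F]

/-- The greatest common divisor of `q + 1` and the block sizes. -/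
noncomputable def wtU (q : ℕ) : List F[X] → ℕ
  | [] => q + 1
  | p :: l => if p.natDegree = 0 then wtU q l else Nat.gcd (l.length + 1) (wtU q l)

omit [Fintype F] in
theorem wtU_pos (q : ℕ) : ∀ l : List F[X], 0 < wtU q l
  | [] => Nat.succ_pos q
  | p :: l => by
    rw [wtU]
    split_ifs
    · exact wtU_pos q l
    · exact Nat.gcd_pos_of_pos_right _ (wtU_pos q l)

omit [Fintype F] in
theorem pow_wtU_mem {G : Type*} [Group G] (q : ℕ) (L : ℕ → F[X]) (S : Subgroup G) (a : G)
    (ha : a ^ (q + 1) = 1) : ∀ m, (∀ j < m, (L j).natDegree ≠ 0 → a ^ (j + 1) ∈ S) →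
      a ^ wtU q (lst L m) ∈ S
  | 0, _ => by rw [lst, wtU, ha]; exact one_mem S
  | m + 1, h => by
    have hlen : ∀ k, (lst L k).length = k := fun k => by induction k <;> simp [lst, *]
    have ih := pow_wtU_mem q L S a ha m fun j hj => h j (by omega)
    rw [lst, wtU, hlen]
    split_ifs with h0
    · exact ih
    · rw [← zpow_natCast, Nat.gcd_eq_gcd_ab, zpow_add, zpow_mul, zpow_mul, zpow_natCast, zpow_natCast]
      exact mul_mem (zpow_mem (h m (by omega) h0) _) (zpow_mem ih _)

variable {σ : F ≃+* F} {q : ℕ}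

omit [Fintype F] in
theorem sgc_pow (hσ : ∀ x, σ x = x ^ q) {p : F[X]} (hp : p.Monic) (hsd : SD σ p) :
    sgc p ^ (q + 1) = 1 := by
  have h := hsd 0 (Nat.zero_le _)
  rw [Nat.sub_zero, hp.coeff_natDegree] at h
  rw [pow_succ, ← hσ, sgc, map_mul, map_pow, map_neg, map_one, mul_mul_mul_comm, ← mul_pow,
    neg_mul_neg, one_mul, one_pow, one_mul, mul_comm, ← h]

theorem card_twist_le (hq : 2 ≤ q) (hσ : ∀ x, σ x = x ^ q) {c : F} (hc : c ≠ 0) :
    Nat.card {x : F // c * σ x = x} ≤ q := by
  classical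
  rw [Nat.card_eq_fintype_card, Fintype.card_subtype]
  have hd : (C c * X ^ q - X : F[X]).natDegree = q := by
    rw [natDegree_sub_eq_left_of_natDegree_lt (by rw [natDegree_C_mul_X_pow q c hc, natDegree_X]; omega),
      natDegree_C_mul_X_pow q c hc]
  have hne : (C c * X ^ q - X : F[X]) ≠ 0 := fun h => by rw [h, natDegree_zero] at hd; omega
  refine le_trans (Finset.card_le_card (t := (C c * X ^ q - X : F[X]).roots.toFinset) fun x hx => ?_) ?_
  · rw [Finset.mem_filter, hσ] at hx
    rw [Multiset.mem_toFinset, mem_roots hne]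
    simp [hx.2]
  · exact (Multiset.toFinset_card_le _).trans ((card_roots' _).trans hd.le)

theorem polysU_fibre [DecidableEq F] (hF : Fintype.card F = q ^ 2) (hq : 2 ≤ q)
    (hσ : ∀ x, σ x = x ^ q) (hσσ : ∀ x, σ (σ x) = x) {a : ℕ} (ha : 0 < a) (v : F)
    (s : Finset F[X]) (hs : ∀ p ∈ s, p ∈ polys F a ∧ SD σ p ∧ sgc p = v) :
    s.card ≤ q ^ (a - 1) := by
  obtain ⟨K, rfl⟩ : ∃ K, a = K + 1 := ⟨a - 1, by omega⟩
  rcases s.eq_empty_or_nonempty with rfl | ⟨p₀, hp₀⟩
  · simp
  obtain ⟨c, hc⟩ : ∃ c, p₀.coeff 0 = c := ⟨_, rfl⟩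
  obtain ⟨hpa, hsd, hv⟩ := hs p₀ hp₀
  obtain ⟨hm, hd, h0⟩ := polys_spec hpa
  have hcc : c * σ c = 1 := by
    have h := hsd 0 (Nat.zero_le _)
    rw [Nat.sub_zero, hm.coeff_natDegree, hc] at h
    exact h.symm
  have hφ : ∀ x, c * σ (c * σ x) = x := fun x => by
    rw [map_mul, hσσ, ← mul_assoc, hcc, one_mul]
  obtain ⟨S, hSdef⟩ : ∃ S : Set F[X], S = {g : F[X] | g.Monic ∧ g.natDegree = K + 1 ∧ g.coeff 0 = c ∧
      ∀ i, 1 ≤ i → i ≤ K → g.coeff (K + 1 - i) = c * σ (g.coeff i)} := ⟨_, rfl⟩
  have hsub : ↑s ⊆ S := by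
    intro p hp
    obtain ⟨hpa', hsd', hv'⟩ := hs p hp
    obtain ⟨hm', hd', -⟩ := polys_spec hpa'
    have hc' : p.coeff 0 = c := by
      have h := hv'.trans hv.symm
      simp only [sgc, hd, hd'] at h
      exact (mul_left_cancel₀ (pow_ne_zero _ (neg_ne_zero.2 one_ne_zero)) h).trans hc
    rw [hSdef]
    refine ⟨hm', hd', hc', fun i _ hi2 => ?_⟩
    have := hsd' i (by omega)
    rwa [hd', hc'] at this
  have hcard : Nat.card ↥S = Nat.card F ^ (K / 2) * Nat.card {x : F // c * σ x = x} ^ (K % 2) := by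
    rw [hSdef]
    exact SelfRecip.card_selfrecip (fun x => c * σ x) hφ K c
  haveI : Finite ↥S := Nat.finite_of_card_ne_zero (by
    rw [hcard]
    have : Nat.card {x : F // c * σ x = x} ≠ 0 := by
      haveI : Nonempty {x : F // c * σ x = x} := ⟨⟨0, by simp⟩⟩
      exact Nat.card_pos.ne'
    exact mul_ne_zero (pow_ne_zero _ Nat.card_pos.ne') (pow_ne_zero _ this))
  calc s.card = Nat.card ↥(s : Set F[X]) := (Nat.card_eq_finsetCard s).symm
    _ ≤ Nat.card ↥S := Nat.card_mono (Set.toFinite S) hsub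
    _ ≤ (q ^ 2) ^ (K / 2) * q ^ (K % 2) := by
      rw [hcard, Nat.card_eq_fintype_card (α := F), hF]
      exact Nat.mul_le_mul_left _ (Nat.pow_le_pow_left
        (card_twist_le hq hσ (left_ne_zero_of_mul_eq_one hcc)) _)
    _ = q ^ (K + 1 - 1) := by rw [← pow_mul, ← pow_add]; congr 1; omega

theorem pow_solutions_gcd [DecidableEq F] {a b : ℕ} (ha : 0 < a) (v : F) :
    (Finset.univ.filter fun x : Fˣ => (x : F) ^ a = 1 ∧ (x : F) ^ b = v).card ≤ Nat.gcd a b := by
  rcases (Finset.univ.filter fun x : Fˣ => (x : F) ^ a = 1 ∧ (x : F) ^ b = v).eq_empty_or_nonempty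
    with h | ⟨x₀, hx₀⟩
  · simp [h]
  rw [Finset.mem_filter] at hx₀
  refine le_trans ?_ (IsCyclic.card_pow_eq_one_le (α := Fˣ) (n := Nat.gcd a b)
    (Nat.gcd_pos_of_pos_left _ ha))
  refine Finset.card_le_card_of_injOn (fun x => x / x₀) (fun x hx => ?_)
    (fun x _ y _ h => div_left_inj.1 h)
  rw [Finset.mem_coe, Finset.mem_filter] at hx
  rw [Finset.mem_coe, Finset.mem_filter]
  refine ⟨Finset.mem_univ _, pow_gcd_eq_one.2 ⟨?_, ?_⟩⟩
  · rw [div_pow, div_eq_one]
    exact Units.ext (by rw [Units.val_pow_eq_pow_val, Units.val_pow_eq_pow_val, hx.2.1, hx₀.2.1])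
  · rw [div_pow, div_eq_one]
    exact Units.ext (by rw [Units.val_pow_eq_pow_val, Units.val_pow_eq_pow_val, hx.2.2, hx₀.2.2])

open Classical in
/-- Codes all of whose entries are self-dual. -/
noncomputable def seqsU (σ : F ≃+* F) [DecidableEq F] (m n : ℕ) : Finset (List F[X]) :=
  (seqs F m n).filter fun l => ∀ p ∈ l, SD σ p

set_option maxHeartbeats 800000 in
theorem weightU_le [DecidableEq F] (hF : Fintype.card F = q ^ 2) (hq : 2 ≤ q)
    (hσ : ∀ x, σ x = x ^ q) (hσσ : ∀ x, σ (σ x) = x) : ∀ m n (f : ℕ → ℕ) (h : ℕ) (t : F),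
    h ∣ q + 1 →
    h * ∑ l ∈ (seqsU σ m n).filter (fun l => (dt l * t) ^ ((q + 1) / h) = 1), f (wtU q l) ≤
      WU q m n (fun w => Nat.gcd w h * f w)
  | 0, n, f, h, t, hh => by
    classical
    by_cases hn : n = 0
    · subst hn
      simp only [WU, if_true]
      rw [Nat.gcd_eq_right hh]
      refine Nat.mul_le_mul_left _ ?_
      calc _ ≤ ∑ l ∈ seqs F 0 0, f (wtU q l) :=
            Finset.sum_le_sum_of_subset ((Finset.filter_subset _ _).trans (Finset.filter_subset _ _))
        _ = f (q + 1) := by simp [seqs, wtU]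
    · simp [seqsU, seqs, hn]
  | m + 1, n, f, h, t, hh => by
    classical
    rw [WU]
    let P : ℕ → Finset F[X] := fun a => (polys F a).filter (SD σ)
    let T : ℕ → Finset (List F[X]) := fun a => seqsU σ m (n - a * (m + 1))
    let cond : F[X] → List F[X] → Prop := fun p l => (dt (p :: l) * t) ^ ((q + 1) / h) = 1
    have hsub : (seqsU σ (m + 1) n).filter (fun l => (dt l * t) ^ ((q + 1) / h) = 1) ⊆
        (Finset.range (n / (m + 1) + 1)).biUnion fun a =>
          ((P a ×ˢ T a).filter fun x => cond x.1 x.2).image fun x => x.1 :: x.2 := by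
      intro l hl
      rw [Finset.mem_filter, seqsU, Finset.mem_filter, seqs, Finset.mem_biUnion] at hl
      obtain ⟨⟨⟨a, ha, hl⟩, hgood⟩, hcond⟩ := hl
      obtain ⟨⟨p, l'⟩, hx, rfl⟩ := Finset.mem_image.1 hl
      rw [Finset.mem_product] at hx
      rw [Finset.mem_biUnion]
      refine ⟨a, ha, Finset.mem_image.2 ⟨(p, l'), Finset.mem_filter.2 ⟨Finset.mem_product.2 ⟨?_, ?_⟩,
        hcond⟩, rfl⟩⟩
      · exact Finset.mem_filter.2 ⟨hx.1, hgood p List.mem_cons_self⟩
      · exact Finset.mem_filter.2 ⟨hx.2, fun r hr => hgood r (List.mem_cons_of_mem _ hr)⟩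
    refine (Nat.mul_le_mul_left _ (Finset.sum_le_sum_of_subset hsub)).trans ?_
    refine (Nat.mul_le_mul_left _ (sum_biUnion_le' _ _ _)).trans ?_
    rw [Finset.mul_sum]
    refine Finset.sum_le_sum fun a ha => ?_
    refine (Nat.mul_le_mul_left _ (Finset.sum_image_le_of_nonneg fun _ _ => Nat.zero_le _)).trans ?_
    have hlen : ∀ l ∈ T a, l.length = m := fun l hl => length_seqs m _ (Finset.mem_filter.1 hl).1
    by_cases ha0 : a = 0
    · subst ha0
      simp only [if_true, cU, one_mul]
      refine le_trans (Nat.mul_le_mul_left _ ?_)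
        (weightU_le hF hq hσ hσσ m (n - 0 * (m + 1)) f h t hh)
      have hP0 : P 0 ⊆ {1} := fun p hp => by simpa [polys] using (Finset.mem_filter.1 hp).1
      calc ∑ x ∈ (P 0 ×ˢ T 0).filter (fun x => cond x.1 x.2), f (wtU q (x.1 :: x.2))
          ≤ ∑ x ∈ (({1} : Finset F[X]) ×ˢ T 0).filter (fun x => cond x.1 x.2), f (wtU q (x.1 :: x.2)) :=
            Finset.sum_le_sum_of_subset (Finset.filter_subset_filter _
              (Finset.product_subset_product hP0 subset_rfl))
        _ = _ := by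
            rw [Finset.sum_filter, Finset.sum_product, Finset.sum_singleton, ← Finset.sum_filter]
            refine Finset.sum_congr (Finset.filter_congr fun l hl => ?_) fun l _ => ?_
            · simp [cond, dt, sgc, hlen l hl]
            · simp [wtU]
    · have hpos : 0 < a := Nat.pos_of_ne_zero ha0
      simp only [if_neg ha0]
      let k := Nat.gcd (m + 1) h
      let g : ℕ → ℕ := fun w => f (Nat.gcd (m + 1) w)
      let T' := (T a).filter fun l => (dt l * t) ^ ((q + 1) / k) = 1
      have hk : k ∣ q + 1 := (Nat.gcd_dvd_right _ _).trans hh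
      have hwt : ∀ p ∈ P a, ∀ l ∈ T a, f (wtU q (p :: l)) = g (wtU q l) := by
        intro p hp l hl
        simp [wtU, (polys_spec (Finset.mem_filter.1 hp).1).2.1, ha0, hlen l hl, g]
      have hone : ∀ p ∈ P a, sgc p ^ (q + 1) = 1 := fun p hp =>
        sgc_pow hσ (polys_spec (Finset.mem_filter.1 hp).1).1 (Finset.mem_filter.1 hp).2
      have hcount : ∀ l ∈ T a, ((P a).filter fun p => cond p l).card ≤
          if (dt l * t) ^ ((q + 1) / k) = 1 then q ^ (a - 1) * ((q + 1) / h * k) else 0 := by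
        intro l hl
        obtain ⟨M, hM⟩ := hh
        rcases Nat.eq_zero_or_pos h with rfl | hh0
        · omega
        have hMdiv : (q + 1) / h = M := by rw [hM, Nat.mul_div_cancel_left _ hh0]
        obtain ⟨b', hb'⟩ := Nat.gcd_dvd_left (m + 1) h
        obtain ⟨h', hh'⟩ := Nat.gcd_dvd_right (m + 1) h
        have hk0 : 0 < k := Nat.gcd_pos_of_pos_left _ (by omega)
        have hkdiv : (q + 1) / k = h' * M := by
          rw [hM, hh', show Nat.gcd (m + 1) h = k from rfl, mul_assoc, Nat.mul_div_cancel_left _ hk0]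
        rw [hkdiv]
        split_ifs with hex
        · let S : Finset Fˣ := Finset.univ.filter fun x : Fˣ =>
            (x : F) ^ (q + 1) = 1 ∧ (x : F) ^ ((m + 1) * M) = ((dt l * t) ^ M)⁻¹
          have hS : S.card ≤ M * k := by
            refine (pow_solutions_gcd (by omega) _).trans (le_of_eq ?_)
            rw [hM, mul_comm h M, mul_comm (m + 1) M, Nat.gcd_mul_left, Nat.gcd_comm]
          let S' : Finset F := S.image Units.val
          have hmaps : ∀ p ∈ (P a).filter fun p => cond p l, sgc p ∈ S' := by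
            intro p hp
            obtain ⟨hpP, hpc⟩ := Finset.mem_filter.1 hp
            have hne : sgc p ≠ 0 := mul_ne_zero (pow_ne_zero _ (neg_ne_zero.2 one_ne_zero))
              (polys_spec (Finset.mem_filter.1 hpP).1).2.2
            refine Finset.mem_image.2 ⟨Units.mk0 _ hne,
              Finset.mem_filter.2 ⟨Finset.mem_univ _, hone p hpP, ?_⟩, rfl⟩
            simp only [cond, dt, hlen l hl, hMdiv, mul_assoc, mul_pow, ← pow_mul] at hpc
            rw [← mul_pow] at hpc
            exact eq_inv_of_mul_eq_one_left hpc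
          refine (Finset.card_le_mul_card_image_of_maps_to hmaps (q ^ (a - 1)) fun v _ => ?_).trans ?_
          · refine polysU_fibre hF hq hσ hσσ hpos v _ fun p hp => ?_
            obtain ⟨hp1, hp2⟩ := Finset.mem_filter.1 hp
            obtain ⟨hp3, hp4⟩ := Finset.mem_filter.1 (Finset.mem_filter.1 hp1).1
            exact ⟨hp3, hp4, hp2⟩
          · rw [hMdiv]
            exact Nat.mul_le_mul_left _ (Finset.card_image_le.trans hS)
        · refine le_of_eq (Finset.card_eq_zero.2 (Finset.filter_eq_empty_iff.2 fun {p} hpP hpc => hex ?_))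
          simp only [cond, dt, hlen l hl, hMdiv] at hpc
          have h1 : ((sgc p ^ (m + 1) * dt l * t) ^ M) ^ h' = 1 := by rw [hpc, one_pow]
          have h2 : (sgc p ^ (m + 1)) ^ (h' * M) = 1 := by
            rw [hb', show Nat.gcd (m + 1) h = k from rfl, ← pow_mul,
              show k * b' * (h' * M) = (h * M) * b' by rw [hh', show Nat.gcd (m + 1) h = k from rfl]; ring,
              pow_mul, ← hM, hone p hpP, one_pow]
          rw [← pow_mul, mul_comm M h', mul_assoc, mul_pow, h2, one_mul] at h1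
          exact h1
      calc h * ∑ x ∈ (P a ×ˢ T a).filter (fun x => cond x.1 x.2), f (wtU q (x.1 :: x.2))
          = h * ∑ l ∈ T a, g (wtU q l) * ((P a).filter fun p => cond p l).card := by
            rw [Finset.sum_filter, Finset.sum_product_right]
            congr 1
            refine Finset.sum_congr rfl fun l hl => ?_
            rw [← Finset.sum_filter, Finset.sum_congr rfl
              (fun p hp => hwt p (Finset.mem_filter.1 hp).1 l hl), Finset.sum_const, smul_eq_mul,
              mul_comm]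
        _ ≤ h * ∑ l ∈ T a, g (wtU q l) * (if (dt l * t) ^ ((q + 1) / k) = 1 then
              q ^ (a - 1) * ((q + 1) / h * k) else 0) :=
            Nat.mul_le_mul_left _ (Finset.sum_le_sum fun l hl => Nat.mul_le_mul_left _ (hcount l hl))
        _ = cU q a * (k * ∑ l ∈ T', g (wtU q l)) := by
            simp only [mul_ite, mul_zero, ← Finset.sum_filter, ← Finset.sum_mul, T']
            rw [cU, if_neg ha0]
            calc _ = (h * ((q + 1) / h)) * q ^ (a - 1) *
                  (k * ∑ l ∈ (T a).filter (fun l => (dt l * t) ^ ((q + 1) / k) = 1), g (wtU q l)) := by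
                  ring
              _ = _ := by rw [Nat.mul_div_cancel' hh]
        _ ≤ _ := by
            refine Nat.mul_le_mul_left _ ((weightU_le hF hq hσ hσσ m (n - a * (m + 1)) g k t hk).trans
              (WU_mono q m _ fun w _ _ => le_of_eq ?_))
            show Nat.gcd w k * g w = Nat.gcd (Nat.gcd (m + 1) w) h * f (Nat.gcd (m + 1) w)
            rw [show k = Nat.gcd (m + 1) h from rfl, ← Nat.gcd_assoc, Nat.gcd_comm w (m + 1)]

theorem totalU_le [DecidableEq F] (hF : Fintype.card F = q ^ 2) (hq : 2 ≤ q)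
    (hσ : ∀ x, σ x = x ^ q) (hσσ : ∀ x, σ (σ x) = x) (n : ℕ) :
    (q + 1) * ∑ l ∈ (seqsU σ n n).filter (fun l => dt l = 1), wtU q l ≤
      cntU q n n + ∑ d ∈ (Nat.gcd n (q + 1)).divisors.erase 1,
        (d * d - 1) * cntU q (n / d) (n / d) := by
  classical
  have h := weightU_le hF hq hσ hσσ n n id (q + 1) 1 dvd_rfl
  rw [Nat.div_self (Nat.succ_pos q)] at h
  simp only [mul_one, pow_one, id_eq] at h
  let D := (Nat.gcd n (q + 1)).divisors.erase 1
  let I : ℕ → ℕ → ℕ := fun d w => if d ∣ w then 1 else 0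
  refine h.trans (le_trans (WU_mono q n n (g := fun w => I 1 w + ∑ d ∈ D, (d * d - 1) * I d w) ?_) ?_)
  · intro w h1 h2
    rw [Nat.gcd_eq_left h1]
    simp only [I, one_dvd, if_true]
    by_cases hw : w = 1
    · subst hw; omega
    · have hwD : w ∈ D := Finset.mem_erase.2 ⟨hw, Nat.mem_divisors.2
        ⟨Nat.dvd_gcd h2 h1, (Nat.gcd_pos_of_pos_right _ (Nat.succ_pos q)).ne'⟩⟩
      refine le_trans ?_ (Nat.add_le_add_left (Finset.single_le_sum (f := fun d =>
        (d * d - 1) * if d ∣ w then 1 else 0) (fun _ _ => Nat.zero_le _) hwD) _)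
      simp only [dvd_refl, if_true, mul_one]
      omega
  rw [WU_add, WU_sum]
  refine Nat.add_le_add ((WU_dvd q one_pos n n).trans (by simp)) (Finset.sum_le_sum fun d hd => ?_)
  rw [WU_smul]
  refine Nat.mul_le_mul_left _ ((WU_dvd q (Nat.pos_of_mem_divisors (Finset.mem_of_mem_erase hd))
    n n).trans ?_)
  rw [if_pos ((Nat.dvd_of_mem_divisors (Finset.mem_of_mem_erase hd)).trans (Nat.gcd_dvd_left _ _))]

end Cfsg.Agent.GUCount
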