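import Cfsg.Agent.Lib.Classical.GUCount.Split
import Cfsg.Agent.Lib.Classical.GUCount.Code
import Cfsg.Agent.Lib.Classical.GUCount.Weight
import Cfsg.Agent.Lib.LinearBlock.GUConj

/-!
Classes of `SU` are counted by the weighted self-dual codes of determinant one.
-/

set_option autoImplicit false
set_option linter.style.haveILetI false

namespace Cfsg.Agent.GUCount

open Polynomial Matrix UnitarySpectra Cfsg.Agent.GLCount Cfsg.Agent.SLBound Cfsg.Agent.SLWeight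

universe u

variable {F : Type u} [Field F] [Fintype F] {q n : ℕ}

theorem mem_lst {α : Type*} {L : ℕ → α} {x : α} : ∀ m, x ∈ lst L m → ∃ j, x = L j
  | 0, h => by simp [lst] at h
  | m + 1, h => by
    rcases List.mem_cons.1 h with h | h
    · exact ⟨m, h⟩
    · exact mem_lst m h

variable [DecidableEq F] {σ : F ≃+* F} (hσ : ∀ x, σ x = x ^ q) (hσσ : ∀ x, σ (σ x) = x)
include hσ hσσ

omit hσσ [DecidableEq F] in
theorem mem_GU_adj (x : Matrix.GeneralLinearGroup (Fin n) F) :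
    x ∈ Cfsg.GU n F q ↔ adj σ x.1 * x.1 = 1 := by
  rw [HermSU.mem_GU_iff (σ := σ.toRingHom) hσ, adj, ← Matrix.transpose_inj, Matrix.transpose_mul,
    Matrix.transpose_transpose, Matrix.transpose_one]
  rfl

omit hσ in
theorem codeOf_mem_seqsU (g : Matrix.GeneralLinearGroup (Fin n) F) (hg : adj σ g.1 * g.1 = 1) :
    codeOf g ∈ seqsU σ n n := by
  classical
  refine Finset.mem_filter.2 ⟨codeOf_mem g, fun p hp => ?_⟩
  obtain ⟨ι, hι, P, e, hP, h0, -, -, ⟨Φ⟩, hc⟩ := codeOf_spec g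
  rw [hc] at hp
  obtain ⟨j, rfl⟩ := mem_lst n hp
  exact SD_of_dual (code_monic hP j) (dual_code hσσ g hg hP h0 Φ j)

omit [DecidableEq F] in
/-- Norm-one elements raised to the weight are determinants of centralising unitary elements. -/
theorem exists_centralizing {μ : F} (hμ : σ μ ≠ μ) (g : Matrix.GeneralLinearGroup (Fin n) F)
    (hg : adj σ g.1 * g.1 = 1) (b : Fˣ) (hb : b ^ (q + 1) = 1) :
    ∃ c : Matrix.GeneralLinearGroup (Fin n) F, c ∈ Cfsg.GU n F q ∧ c * g = g * c ∧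
      Matrix.GeneralLinearGroup.det c = b ^ wtU q (codeOf g) := by
  classical
  obtain ⟨ι, hι, p, e, hp, h0, -, -, ⟨Φ⟩, hc⟩ := codeOf_spec g
  have hbb : σ ((b : F)⁻¹) * (b : F)⁻¹ = 1 := by
    rw [hσ, ← pow_succ, inv_pow, ← Units.val_pow_eq_pow_val, hb, Units.val_one, inv_one]
  obtain ⟨w, hw, hwb⟩ := InvolRing.exists_h90 (τ := σ.toRingHom) hσσ (δ := μ)
    (IsUnit.mk0 _ (sub_ne_zero.2 fun e => hμ e.symm)) (u := (b : F)) (by
      show σ (b : F) * (b : F) = 1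
      rw [map_inv₀, ← mul_inv, inv_eq_one] at hbb
      exact hbb)
  replace hwb : (b : F) * σ w = w := hwb
  have hw0 : σ w ≠ 0 := (map_ne_zero σ).2 hw.ne_zero
  have key := pow_wtU_mem q (code p e)
    ((Subgroup.centralizer {g} ⊓ Cfsg.GU n F q).map
      (Matrix.GeneralLinearGroup.det (n := Fin n) (R := F))) b hb n ?_
  · rw [← hc] at key
    obtain ⟨c, ⟨hc1, hc1'⟩, hc2⟩ := key
    exact ⟨c, hc1', Subgroup.mem_centralizer_singleton_iff.1 hc1, hc2⟩
  intro j _ hj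
  have hne : (Finset.univ.filter fun i => e i = j + 1).Nonempty := by
    by_contra h
    rw [Finset.not_nonempty_iff_eq_empty] at h
    rw [code_degree hp, h, Finset.sum_empty] at hj
    exact hj rfl
  obtain ⟨i, hi⟩ := hne
  rw [Finset.mem_filter] at hi
  obtain ⟨Z, hZ, hZg, hZd⟩ := exists_unitary_of_blk hσσ hμ g hg hp h0 Φ (i := i) (by omega)
    (Units.mk0 w hw.ne_zero)
  rw [hi.2, Units.val_mk0, div_eq_iff hw0 |>.2 hwb.symm] at hZd
  let c : Matrix.GeneralLinearGroup (Fin n) F := ⟨Z, adj σ Z, mul_eq_one_comm.1 hZ, hZ⟩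
  refine ⟨c, ⟨Subgroup.mem_centralizer_singleton_iff.2 (Units.ext hZg),
    (mem_GU_adj hσ c).2 hZ⟩, Units.ext ?_⟩
  rw [Units.val_pow_eq_pow_val]
  exact hZd

theorem card_classes_le_sum (hF : Fintype.card F = q ^ 2) {μ : F} (hμ : σ μ ≠ μ) :
    Nat.card (ConjClasses ↥(Cfsg.SU n F q)) ≤
      ∑ l ∈ (seqsU σ n n).filter (fun l => dt l = 1), wtU q l := by
  classical
  let emb : ↥(Cfsg.SU n F q) →* Matrix.GeneralLinearGroup (Fin n) F :=
    Matrix.SpecialLinearGroup.toGL.comp (Cfsg.SU n F q).subtype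
  have hemb : ∀ g, emb g ∈ Cfsg.GU n F q := fun g =>
    (mem_GU_adj hσ _).2 ((mem_SU_iff σ hσ _).1 g.2)
  haveI := Fintype.ofFinite (ConjClasses ↥(Cfsg.SU n F q))
  let rep : ConjClasses ↥(Cfsg.SU n F q) → ↥(Cfsg.SU n F q) := fun C => C.out
  have hrep : ∀ C, ConjClasses.mk (rep C) = C := fun C => Quotient.out_eq C
  let ψ : ConjClasses ↥(Cfsg.SU n F q) → List F[X] := fun C => codeOf (emb (rep C))
  have hψ : ∀ C, ψ C ∈ (seqsU σ n n).filter (fun l => dt l = 1) := fun C => by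
    refine Finset.mem_filter.2 ⟨codeOf_mem_seqsU hσσ _ ((mem_GU_adj hσ _).1 (hemb _)), ?_⟩
    rw [dt_codeOf]
    exact (rep C).1.2
  rw [Nat.card_eq_fintype_card, ← Finset.card_univ,
    Finset.card_eq_sum_card_fiberwise (f := ψ) (fun C _ => hψ C)]
  refine Finset.sum_le_sum fun l _ => ?_
  rcases (Finset.univ.filter fun C => ψ C = l).eq_empty_or_nonempty with he | ⟨C₀, hC₀⟩
  · rw [he]; simp
  rw [Finset.mem_filter] at hC₀
  let g₀ := emb (rep C₀)
  have hg₀ : adj σ g₀.1 * g₀.1 = 1 := (mem_GU_adj hσ _).1 (hemb _)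
  let N1 : Subgroup Fˣ := (powMonoidHom (α := Fˣ) (q + 1)).ker
  have hdet : ∀ x ∈ Cfsg.GU n F q, Matrix.GeneralLinearGroup.det x ∈ N1 := by
    intro x hx
    rw [MonoidHom.mem_ker, powMonoidHom_apply]
    apply Units.ext
    have h := congrArg Matrix.det ((mem_GU_adj hσ x).1 hx)
    rw [det_mul, det_adj, det_one, hσ, ← pow_succ] at h
    rw [Units.val_pow_eq_pow_val, Units.val_one]
    exact h
  let D : Subgroup Fˣ := (Subgroup.centralizer {g₀} ⊓ Cfsg.GU n F q).map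
    (Matrix.GeneralLinearGroup.det (n := Fin n) (R := F))
  have hsol : ∀ C, ψ C = l → ∃ x ∈ Cfsg.GU n F q, x * g₀ * x⁻¹ = emb (rep C) := fun C hC => by
    obtain ⟨x, hx⟩ := isConj_iff.1 (LBGUConj.isConj_of_gl hF ⟨g₀, hemb _⟩ ⟨_, hemb (rep C)⟩
      (isConj_of_codeOf (hC₀.2.trans hC.symm)))
    exact ⟨x.1, x.2, congrArg Subtype.val hx⟩
  choose! x hxU hx using hsol
  have hwt : l = codeOf g₀ := hC₀.2.symm
  let D' : Subgroup N1 := D.subgroupOf N1
  have hq : Nat.card (N1 ⧸ D') ≤ wtU q l := by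
    haveI : IsCyclic (N1 ⧸ D') :=
      isCyclic_of_surjective (QuotientGroup.mk' D') (QuotientGroup.mk'_surjective D')
    haveI := Fintype.ofFinite (N1 ⧸ D')
    rw [Nat.card_eq_fintype_card, ← Finset.card_univ]
    refine le_trans (le_of_eq ?_) (IsCyclic.card_pow_eq_one_le (α := N1 ⧸ D') (n := wtU q l)
      (wtU_pos q l))
    congr 1
    refine (Finset.filter_true_of_mem fun y _ => ?_).symm
    obtain ⟨a, rfl⟩ := QuotientGroup.mk_surjective y
    rw [← QuotientGroup.mk_pow, QuotientGroup.eq_one_iff, hwt, Subgroup.mem_subgroupOf,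
      SubgroupClass.coe_pow]
    obtain ⟨c, hc0, hc1, hc2⟩ := exists_centralizing hσ hσσ hμ g₀ hg₀ a.1 (MonoidHom.mem_ker.1 a.2)
    exact ⟨c, ⟨Subgroup.mem_centralizer_singleton_iff.2 hc1, hc0⟩, hc2⟩
  refine le_trans ?_ hq
  rw [← Fintype.card_coe, ← Nat.card_eq_fintype_card]
  refine Nat.card_le_card_of_injective (fun C =>
    (QuotientGroup.mk ⟨_, hdet _ (hxU C.1 (Finset.mem_filter.1 C.2).2)⟩ : N1 ⧸ D')) fun C E h => ?_
  obtain ⟨C, hC⟩ := C
  obtain ⟨E, hE⟩ := E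
  rw [Finset.mem_filter] at hC hE
  have h' := QuotientGroup.eq.1 h.symm
  rw [Subgroup.mem_subgroupOf] at h'
  obtain ⟨c, hc, hc2⟩ := h'
  obtain ⟨hc1, hc0⟩ := hc
  replace hc1 : c * g₀ = g₀ * c := Subgroup.mem_centralizer_singleton_iff.1 hc1
  have hz : x E * c * g₀ * (x E * c)⁻¹ = emb (rep E) := by
    rw [mul_assoc (x E) c, hc1, ← hx E hE.2]
    group
  have hsmem : x C * (x E * c)⁻¹ ∈ Cfsg.GU n F q :=
    mul_mem (hxU C hC.2) (inv_mem (mul_mem (hxU E hE.2) hc0))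
  have hdet1 : Matrix.GeneralLinearGroup.det (x C * (x E * c)⁻¹) = 1 := by
    rw [map_mul, map_inv, map_mul, hc2]
    simp
  obtain ⟨s, hs⟩ := exists_mem_SU (q := q) σ hσ ((mem_GU_adj hσ _).1 hsmem)
    (congrArg Units.val hdet1)
  have hs' : emb s = x C * (x E * c)⁻¹ := Units.ext hs
  refine Subtype.ext ?_
  rw [show (⟨C, _⟩ : {a // a ∈ Finset.univ.filter fun C => ψ C = l}).1 = C from rfl, ← hrep C]
  show ConjClasses.mk (rep C) = E
  rw [← hrep E]
  refine (ConjClasses.mk_eq_mk_iff_isConj.2 (isConj_iff.2 ⟨s, ?_⟩)).symm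
  apply Subtype.val_injective
  apply Matrix.SpecialLinearGroup.toGL_injective
  show emb (s * rep E * s⁻¹) = emb (rep C)
  rw [map_mul, map_mul, map_inv, hs', ← hx C hC.2, ← hz]
  group

end Cfsg.Agent.GUCount
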