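import Cfsg.Agent.Lib.Classical.GUCount.Layer

/-!
Determinants of the unitary matrices commuting with a unitary matrix.
-/

set_option autoImplicit false
set_option linter.style.haveILetI false

namespace Cfsg.Agent.GUCount

open Polynomial Matrix UnitarySpectra Cfsg.Agent.UnitaryClasses

universe u

variable {F : Type u} [Field F] {σ : F ≃+* F} {n : ℕ}

/-- A non-degenerate cyclic subspace gives unitary matrices commuting with `g`. -/
theorem exists_unitary_norm [Fintype F] (hσσ : ∀ x, σ (σ x) = x) {g : Matrix (Fin n) (Fin n) F}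
    (hg : adj σ g * g = 1) {f : F[X]} (hf : f.Monic) {x : Fin n → F} (hx : aeval g f *ᵥ x = 0)
    (hR : ∀ a : F[X], (∀ c : F[X], ip σ (aeval g c *ᵥ x) (aeval g a *ᵥ x) = 0) → f ∣ a)
    (k : AdjoinRoot f) (hk : Algebra.norm F k ≠ 0) :
    ∃ Z : Matrix (Fin n) (Fin n) F, adj σ Z * Z = 1 ∧ Z * g = g * Z ∧
      Z.det = Algebra.norm F k / σ (Algebra.norm F k) := by
  haveI : Module.Finite F (AdjoinRoot f) := hf.finite_adjoinRoot
  let b := (AdjoinRoot.powerBasis' hf).basis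
  let L : AdjoinRoot f →ₗ[F] (Fin n → F) :=
    { toFun := fun k => aeval g (AdjoinRoot.modByMonicHom hf k) *ᵥ x
      map_add' := fun a c => by rw [map_add, map_add, add_mulVec]
      map_smul' := fun c a => by rw [map_smul, map_smul, smul_mulVec, RingHom.id_apply] }
  have hL : ∀ a : F[X], L (AdjoinRoot.mk f a) = aeval g a *ᵥ x := by
    intro a
    show aeval g (AdjoinRoot.modByMonicHom hf (AdjoinRoot.mk f a)) *ᵥ x = _
    conv_rhs => rw [← modByMonic_add_div a f, mul_comm f, map_add, add_mulVec, ← poly_comm, hx,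
      mulVec_zero, add_zero]
    rw [AdjoinRoot.modByMonicHom_mk]
  obtain ⟨X₁, hX₁⟩ : ∃ X₁, X₁ = LinearMap.toMatrix b (Pi.basisFun F (Fin n)) L := ⟨_, rfl⟩
  have hXL : ∀ k : AdjoinRoot f, X₁ *ᵥ b.repr k = L k := fun k => by
    rw [hX₁, LinearMap.toMatrix_mulVec_repr]
    ext i
    simp
  obtain ⟨G, hGdef⟩ : ∃ G, G = ct σ X₁ * X₁ := ⟨_, rfl⟩
  have hG : IsUnit G := by
    rw [← Matrix.mulVec_injective_iff_isUnit, ← Matrix.coe_mulVecLin, ← LinearMap.ker_eq_bot,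
      Submodule.eq_bot_iff]
    intro u hu
    rw [LinearMap.mem_ker, Matrix.mulVecLin_apply] at hu
    obtain ⟨k, hk⟩ : ∃ k, ⇑(b.repr k) = u :=
      ⟨b.equivFun.symm u, (b.equivFun_apply _).symm.trans (b.equivFun.apply_symm_apply u)⟩
    obtain ⟨a, rfl⟩ := AdjoinRoot.mk_surjective (g := f) k
    have hfa : f ∣ a := by
      refine hR a fun c => ?_
      rw [← hL, ← hL, ← hXL, ← hXL, hk]
      have hmm : ∀ w : Fin (AdjoinRoot.powerBasis' hf).dim → F,
          (fun i => σ ((X₁ *ᵥ w) i)) = (fun i => σ (w i)) ᵥ* ct σ X₁ := fun w => by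
        rw [ct, Matrix.vecMul_transpose]
        exact funext fun i => RingHom.map_mulVec σ.toRingHom _ _ i
      show (fun i => σ ((X₁ *ᵥ _) i)) ⬝ᵥ (X₁ *ᵥ u) = 0
      rw [hmm, ← Matrix.dotProduct_mulVec, mulVec_mulVec, ← hGdef]
      exact (congrArg _ hu).trans (dotProduct_zero _)
    rw [← hk, AdjoinRoot.mk_eq_zero.2 hfa, map_zero]
    rfl
  have hGd : IsUnit G.det := (Matrix.isUnit_iff_isUnit_det G).1 hG
  have hGs : ct σ G = G := by rw [hGdef, ct_mul, ct_ct hσσ]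
  have hGis : ct σ G⁻¹ = G⁻¹ := by
    refine (Matrix.inv_eq_left_inv (B := ct σ G⁻¹) ?_).symm
    conv_lhs => arg 2; rw [← hGs]
    rw [← ct_mul, Matrix.mul_nonsing_inv G hGd, ct_one]
  obtain ⟨E, hEdef⟩ : ∃ E, E = X₁ * G⁻¹ * ct σ X₁ := ⟨_, rfl⟩
  have hadd : ∀ M : Matrix (Fin n) (Fin n) F, adj σ M = ct σ M := fun _ => rfl
  have hEθ : adj σ E = E := by
    rw [hadd, hEdef, ct_mul, ct_mul, ct_ct hσσ, hGis, Matrix.mul_assoc]
  have hEX : E * X₁ = X₁ := by
    rw [hEdef, Matrix.mul_assoc, ← hGdef, Matrix.mul_assoc, Matrix.nonsing_inv_mul G hGd,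
      Matrix.mul_one]
  have hfix : ∀ a : F[X], E *ᵥ (aeval g a *ᵥ x) = aeval g a *ᵥ x := fun a => by
    rw [← hL, ← hXL, mulVec_mulVec, hEX]
  have hrange : ∀ v, ∃ a : F[X], E *ᵥ v = aeval g a *ᵥ x := by
    intro v
    obtain ⟨a, ha⟩ := AdjoinRoot.mk_surjective (g := f) (b.equivFun.symm (G⁻¹ *ᵥ (ct σ X₁ *ᵥ v)))
    refine ⟨a, ?_⟩
    rw [hEdef, ← mulVec_mulVec, ← mulVec_mulVec, ← hL, ← hXL, ha]
    congr 1
    exact ((b.equivFun_apply _).symm.trans (b.equivFun.apply_symm_apply _)).symm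
  have hgE : g * E = E * g := by
    obtain ⟨h, hh⟩ := exists_adj_poly hg
    obtain ⟨E', hE'⟩ : ∃ E', E' = g * E * adj σ g := ⟨_, rfl⟩
    have hE'θ : adj σ E' = E' := by
      rw [hE', adj_mul, adj_mul, adj_adj σ hσσ, hEθ, mul_assoc]
    have hE'fix : ∀ a : F[X], E' *ᵥ (aeval g a *ᵥ x) = aeval g a *ᵥ x := fun a => by
      rw [hE', ← mulVec_mulVec, ← mulVec_mulVec, ← hh, poly_comm, hfix, ← poly_comm, hh,
        mulVec_mulVec, mul_eq_one_comm.1 hg, one_mulVec]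
    have h1 : E' * E = E := by
      refine Matrix.ext_of_mulVec_single fun i => ?_
      rw [← mulVec_mulVec]
      obtain ⟨a, ha⟩ := hrange (Pi.single i 1)
      rw [ha, hE'fix]
    have h2 : E * E' = E' := by
      refine Matrix.ext_of_mulVec_single fun i => ?_
      rw [← mulVec_mulVec]
      obtain ⟨a, ha⟩ := hrange (adj σ g *ᵥ Pi.single i 1)
      have h3 : E' *ᵥ Pi.single i 1 = aeval g (X * a) *ᵥ x := by
        rw [hE', ← mulVec_mulVec, ← mulVec_mulVec, ha, ← poly_comm, aeval_X]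
      rw [h3, hfix]
    have h4 : E' = E := by
      have h5 := congrArg (adj σ) h1
      rw [adj_mul, hE'θ, hEθ, h2] at h5
      exact h5
    calc g * E = g * E * (adj σ g * g) := by rw [hg, mul_one]
      _ = E' * g := by rw [hE', mul_assoc (g * E)]
      _ = E * g := by rw [h4]
  obtain ⟨c, rfl⟩ := AdjoinRoot.mk_surjective (g := f) k
  obtain ⟨M, hM⟩ : ∃ M, M = aeval g (c - 1) := ⟨_, rfl⟩
  obtain ⟨c', hc'⟩ := adj_poly_mem hg (c - 1)
  have hEpoly : ∀ a : F[X], Commute E (aeval g a) := by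
    intro a
    induction a using Polynomial.induction_on' with
    | add a b ha hb => rw [map_add]; exact ha.add_right hb
    | monomial i r =>
      rw [aeval_monomial, ← Algebra.smul_def]
      exact ((show Commute E g from hgE.symm).pow_right i).smul_right r
  obtain ⟨B, hB⟩ : ∃ B, B = Algebra.leftMulMatrix b (AdjoinRoot.mk f (c - 1)) := ⟨_, rfl⟩
  have hMX : M * X₁ = X₁ * B := by
    refine Matrix.ext_of_mulVec_single fun i => ?_
    have hi : (Pi.single i 1 : Fin (AdjoinRoot.powerBasis' hf).dim → F) = b.repr (b i) := by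
      ext l
      rw [b.repr_self, Finsupp.single_apply, Pi.single_apply]
      exact if_congr ⟨fun h => h.symm, fun h => h.symm⟩ rfl rfl
    rw [← mulVec_mulVec, ← mulVec_mulVec, hi, hXL, hB, Algebra.leftMulMatrix_mulVec_repr, hXL]
    obtain ⟨a, ha⟩ := AdjoinRoot.mk_surjective (g := f) (b i)
    rw [← ha, hL, hM, poly_comm, ← map_mul, hL]
  obtain ⟨Y, hY⟩ : ∃ Y, Y = 1 + M * E := ⟨_, rfl⟩
  have hYd : Y.det = Algebra.norm F (AdjoinRoot.mk f c) := by
    rw [hY, hEdef, show M * (X₁ * G⁻¹ * ct σ X₁) = X₁ * (B * G⁻¹ * ct σ X₁) by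
      rw [← Matrix.mul_assoc, ← Matrix.mul_assoc, hMX]; simp only [Matrix.mul_assoc],
      Matrix.det_one_add_mul_comm, Matrix.mul_assoc, ← hGdef, Matrix.mul_assoc,
      Matrix.nonsing_inv_mul G hGd, Matrix.mul_one, hB, ← map_one (Algebra.leftMulMatrix b),
      ← map_add, ← map_one (AdjoinRoot.mk f), ← map_add, add_sub_cancel,
      ← Algebra.norm_eq_matrix_det]
  have hθY : adj σ Y = 1 + aeval g c' * E := by
    rw [hY, adj_add, adj_one, adj_mul, hEθ, hM, ← hc', (hEpoly c').eq]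
  have hYg : Commute Y g := by
    rw [hY, hM]
    exact (Commute.one_left g).add_left (Commute.mul_left (by
      have h := (Commute.all (c - 1) X).map (aeval g : F[X] →ₐ[F] _)
      rwa [aeval_X] at h) hgE.symm)
  have hYY : Commute Y (adj σ Y) := by
    rw [hθY, hY, hM]
    refine (Commute.one_left _).add_left ((Commute.one_right _).add_right ?_)
    exact Commute.mul_left (Commute.mul_right ((Commute.all _ _).map (aeval g)) (hEpoly _).symm)
      (Commute.mul_right (hEpoly _) (Commute.refl E))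
  have hYg' : Commute (adj σ Y) g := by
    rw [hθY]
    exact (Commute.one_left g).add_left (Commute.mul_left (by
      have h := (Commute.all c' X).map (aeval g : F[X] →ₐ[F] _)
      rwa [aeval_X] at h) hgE.symm)
  obtain ⟨Yu, hYu⟩ : IsUnit (adj σ Y) := by
    refine (Matrix.isUnit_iff_isUnit_det _).2 ?_
    rw [det_adj, hYd]
    exact IsUnit.mk0 _ ((map_ne_zero σ).2 hk)
  refine ⟨Y * ((Yu⁻¹ : (Matrix (Fin n) (Fin n) F)ˣ) : Matrix (Fin n) (Fin n) F), ?_, ?_, ?_⟩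
  · have h3 : adj σ ((Yu⁻¹ : (Matrix (Fin n) (Fin n) F)ˣ) : Matrix (Fin n) (Fin n) F) * Y = 1 := by
      rw [show Y = adj σ (Yu : Matrix (Fin n) (Fin n) F) by rw [hYu, adj_adj σ hσσ], ← adj_mul,
        Units.mul_inv, adj_one]
    rw [adj_mul, mul_assoc, ← mul_assoc (adj σ Y), ← hYY.eq, mul_assoc Y, ← hYu, Units.mul_inv,
      mul_one, h3]
  · rw [← hYu] at hYg'
    exact (hYg.mul_left hYg'.units_inv_left).eq
  · have h4 : Y * ((Yu⁻¹ : (Matrix (Fin n) (Fin n) F)ˣ) : Matrix (Fin n) (Fin n) F) * adj σ Y = Y := by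
      rw [mul_assoc, ← hYu, Units.inv_mul, mul_one]
    have h5 := congrArg Matrix.det h4
    rw [Matrix.det_mul, det_adj, hYd] at h5
    exact (eq_div_iff ((map_ne_zero σ).2 hk)).2 h5

theorem norm_pow [Fintype F] (p : F[X]) (j : ℕ) (u : F[X]) :
    Algebra.norm F (AdjoinRoot.mk (p ^ j) u) = LinearMap.det (BlockDet.mulBlk p j u) := by
  let E : GLCount.Blk p j ≃ₗ[F] AdjoinRoot (p ^ j) := LinearEquiv.refl F (GLCount.Blk p j)
  rw [Algebra.norm_apply, ← LinearMap.det_conj (BlockDet.mulBlk p j u) E]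
  congr 1

theorem norm_coprime [Fintype F] {P Q : F[X]} (hP : P.Monic) (hQ : Q.Monic) (hco : IsCoprime P Q)
    (u : F[X]) : Algebra.norm F (AdjoinRoot.mk (P * Q) u) =
      Algebra.norm F (AdjoinRoot.mk P u) * Algebra.norm F (AdjoinRoot.mk Q u) := by
  haveI : Module.Finite F (AdjoinRoot P) := hP.finite_adjoinRoot
  haveI : Module.Finite F (AdjoinRoot Q) := hQ.finite_adjoinRoot
  let φ : AdjoinRoot (P * Q) →ₐ[F] AdjoinRoot P × AdjoinRoot Q :=
    (AdjoinRoot.liftAlgHom (P * Q) (Algebra.ofId F (AdjoinRoot P)) (AdjoinRoot.root P) (by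
      show aeval (AdjoinRoot.root P) (P * Q) = 0
      rw [map_mul, AdjoinRoot.aeval_eq, AdjoinRoot.mk_self, zero_mul])).prod
      (AdjoinRoot.liftAlgHom (P * Q) (Algebra.ofId F (AdjoinRoot Q)) (AdjoinRoot.root Q) (by
        show aeval (AdjoinRoot.root Q) (P * Q) = 0
        rw [map_mul, AdjoinRoot.aeval_eq (f := Q) Q, AdjoinRoot.mk_self, mul_zero]))
  have hφ : ∀ a, φ (AdjoinRoot.mk (P * Q) a) = (AdjoinRoot.mk P a, AdjoinRoot.mk Q a) := fun a => by
    simp [φ, ← AdjoinRoot.aeval_eq, ← aeval_algHom_apply, aeval_prod_apply]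
  have hbij : Function.Bijective φ := by
    refine ⟨fun a b h => ?_, fun y => ?_⟩
    · obtain ⟨a, rfl⟩ := AdjoinRoot.mk_surjective (g := P * Q) a
      obtain ⟨b, rfl⟩ := AdjoinRoot.mk_surjective (g := P * Q) b
      rw [hφ, hφ, Prod.mk.injEq, AdjoinRoot.mk_eq_mk, AdjoinRoot.mk_eq_mk] at h
      rw [AdjoinRoot.mk_eq_mk]
      exact hco.mul_dvd h.1 h.2
    · obtain ⟨a, ha⟩ := AdjoinRoot.mk_surjective (g := P) y.1
      obtain ⟨b, hb⟩ := AdjoinRoot.mk_surjective (g := Q) y.2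
      obtain ⟨A, B, hAB⟩ := hco
      refine ⟨AdjoinRoot.mk _ (a * (B * Q) + b * (A * P)), ?_⟩
      rw [hφ]
      refine Prod.ext ?_ ?_
      · rw [← ha, AdjoinRoot.mk_eq_mk]
        exact ⟨A * (b - a), by linear_combination a * hAB⟩
      · rw [← hb, AdjoinRoot.mk_eq_mk]
        exact ⟨B * (a - b), by linear_combination b * hAB⟩
  rw [← Algebra.norm_eq_of_algEquiv (AlgEquiv.ofBijective φ hbij),
    AlgEquiv.coe_ofBijective, hφ, Algebra.norm_apply, Algebra.norm_apply, Algebra.norm_apply,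
    ← LinearMap.det_prodMap]
  rfl

/-- A block of size `j` supplies all `j`-th powers of `d / σ d`. -/
theorem exists_unitary_of_blk [Fintype F] (hσσ : ∀ x, σ (σ x) = x) {μ : F} (hμ : σ μ ≠ μ)
    (g : Matrix.GeneralLinearGroup (Fin n) F) (hg : adj σ g.1 * g.1 = 1) {ι : Type u} [Fintype ι]
    {p : ι → F[X]} {e : ι → ℕ} (hp : ∀ i, Irreducible (p i) ∧ (p i).Monic)
    (h0 : ∀ i, e i ≠ 0 → (p i).eval 0 ≠ 0)
    (Φ : Module.AEval' (GLCount.lin g.1) ≃ₗ[F[X]] ((i : ι) → GLCount.Blk (p i) (e i))) {i : ι}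
    (hi : e i ≠ 0) (d : Fˣ) :
    ∃ Z : Matrix (Fin n) (Fin n) F, adj σ Z * Z = 1 ∧ Z * g.1 = g.1 * Z ∧
      Z.det = ((d : F) / σ d) ^ e i := by
  classical
  have hsm : ∀ (a : F[X]) (v : Fin n → F), Module.AEval'.of (GLCount.lin g.1) (aeval g.1 a *ᵥ v) =
      a • Module.AEval'.of (GLCount.lin g.1) v := by
    intro a v
    have h1 : aeval (GLCount.lin g.1) a v = aeval g.1 a *ᵥ v := by
      rw [GLCount.lin, aeval_algHom_apply]
      rfl
    rw [← h1]
    exact Module.AEval.of_aeval_smul _ _ _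
  obtain ⟨v, hv⟩ := (Module.AEval'.of (GLCount.lin g.1)).surjective
    (Φ.symm (Pi.single i (Submodule.Quotient.mk 1)))
  have hΦv : ∀ a : F[X], Φ (Module.AEval'.of (GLCount.lin g.1) (aeval g.1 a *ᵥ v)) =
      Pi.single i (Submodule.Quotient.mk a) := fun a => by
    rw [hsm, map_smul, hv, Φ.apply_symm_apply, ← Pi.single_smul, ← Submodule.Quotient.mk_smul,
      smul_eq_mul, mul_one]
  have hv0 : aeval g.1 (p i ^ e i) *ᵥ v = 0 := by
    apply (Module.AEval'.of (GLCount.lin g.1)).injective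
    apply Φ.injective
    rw [hΦv, map_zero, map_zero, Pi.single_eq_zero_iff, Submodule.Quotient.mk_eq_zero]
    exact Submodule.mem_span_singleton_self _
  have hv1 : ∀ y, aeval g.1 (p i ^ e i) *ᵥ y ≠ aeval g.1 (p i ^ (e i - 1)) *ᵥ v := by
    intro y hy
    have h1 := congrArg (fun z => Φ (Module.AEval'.of (GLCount.lin g.1) z) i) hy
    simp only [hsm _ y, hΦv, Pi.single_eq_same, map_smul, Pi.smul_apply] at h1
    obtain ⟨a, ha⟩ := Submodule.mkQ_surjective _ (Φ (Module.AEval'.of (GLCount.lin g.1) y) i)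
    rw [← ha, Submodule.mkQ_apply, ← Submodule.Quotient.mk_smul, smul_eq_mul,
      (Submodule.Quotient.mk_eq_zero _).2 (Submodule.mem_span_singleton.2 ⟨a, mul_comm _ _⟩), eq_comm,
      Submodule.Quotient.mk_eq_zero, Submodule.mem_span_singleton] at h1
    obtain ⟨b, hb⟩ := h1
    have := (pow_dvd_pow_iff (hp i).1.ne_zero (hp i).1.not_isUnit).1
      (Dvd.intro_left b hb : p i ^ e i ∣ p i ^ (e i - 1))
    omega
  obtain ⟨t, ht, hco, x, hx0, hx⟩ := exists_nondeg hσσ hμ hg (hp i).2 (hp i).1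
    (by rw [coeff_zero_eq_eval_zero]; exact h0 i hi) hv0 hv1
  obtain ⟨u, hu⟩ := BlockDet.exists_mulBlk (p i) (hp i).1 (hp i).2 d (e i)
  obtain ⟨A, B, hAB⟩ : IsCoprime (p i ^ e i) t := hco
  obtain ⟨c, hc⟩ : ∃ c, c = u * (B * t) + 1 * (A * p i ^ e i) := ⟨_, rfl⟩
  have hn : Algebra.norm F (AdjoinRoot.mk (p i ^ e i * t) c) = (d : F) ^ e i := by
    rw [norm_coprime ((hp i).2.pow _) ht ⟨A, B, hAB⟩,
      show AdjoinRoot.mk (p i ^ e i) c = AdjoinRoot.mk (p i ^ e i) u from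
        AdjoinRoot.mk_eq_mk.2 ⟨A * (1 - u), by rw [hc]; linear_combination u * hAB⟩,
      show AdjoinRoot.mk t c = AdjoinRoot.mk t 1 from
        AdjoinRoot.mk_eq_mk.2 ⟨B * (u - 1), by rw [hc]; linear_combination hAB⟩,
      map_one (AdjoinRoot.mk t), map_one, mul_one, norm_pow, hu]
  obtain ⟨Z, hZ1, hZ2, hZ3⟩ := exists_unitary_norm hσσ hg (((hp i).2.pow _).mul ht) hx0 hx
    (AdjoinRoot.mk _ c) (by rw [hn]; exact pow_ne_zero _ d.ne_zero)
  exact ⟨Z, hZ1, hZ2, by rw [hZ3, hn, map_pow, div_pow]⟩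

end Cfsg.Agent.GUCount
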